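import Mathlib

/-! Frobenius-semilinear endomorphisms of finite-dimensional vector spaces: basics. -/

open scoped Classical
set_option linter.unusedSectionVars false
set_option autoImplicit false
noncomputable section

namespace Groth.Agent.Lib.Helper6.FrobSL

variable {k : Type*} [Field k] (p : ℕ) [Fact p.Prime] [CharP k p] (r : ℕ)
variable {V : Type*} [AddCommGroup V] [Module k V]
variable (Φ : V →ₛₗ[iterateFrobenius k p r] V)

lemma map_smul_pow (c : k) (v : V) : Φ (c • v) = c ^ p ^ r • Φ v := by
  rw [Φ.map_smulₛₗ, iterateFrobenius_def]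

/-- the semilinear map attached to an additive map with `φ (c • v) = c ^ q • φ v` -/
def ofAdd (φ : V →+ V) (hφ : ∀ (c : k) (v : V), φ (c • v) = c ^ (p ^ r) • φ v) :
    V →ₛₗ[iterateFrobenius k p r] V where
  toFun := φ
  map_add' := φ.map_add
  map_smul' c v := by
    show φ (c • v) = (iterateFrobenius k p r) c • φ v
    rw [hφ, iterateFrobenius_def]

@[simp] lemma ofAdd_apply (φ : V →+ V) (hφ : ∀ (c : k) (v : V), φ (c • v) = c ^ (p ^ r) • φ v)
    (v : V) : ofAdd p r φ hφ v = φ v := rfl

lemma iterate_smul (n : ℕ) (c : k) (v : V) : Φ^[n] (c • v) = c ^ (p ^ r) ^ n • Φ^[n] v := by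
  induction n generalizing c v with
  | zero => simp
  | succ n ih =>
    rw [Function.iterate_succ_apply', Function.iterate_succ_apply', ih, map_smul_pow, ← pow_mul,
      ← pow_succ]

lemma iterate_add (n : ℕ) (v w : V) : Φ^[n] (v + w) = Φ^[n] v + Φ^[n] w := by
  induction n generalizing v w with
  | zero => simp
  | succ n ih =>
    rw [Function.iterate_succ_apply', Function.iterate_succ_apply', Function.iterate_succ_apply',
      ih, map_add]

lemma iterate_zero' (n : ℕ) : Φ^[n] (0 : V) = 0 := by
  induction n with
  | zero => simp
  | succ n ih => rw [Function.iterate_succ_apply', ih, map_zero]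

lemma iterate_sum {ι : Type*} (s : Finset ι) (n : ℕ) (f : ι → V) :
    Φ^[n] (∑ i ∈ s, f i) = ∑ i ∈ s, Φ^[n] (f i) := by
  induction s using Finset.induction_on with
  | empty => simpa using iterate_zero' p r Φ n
  | insert a s ha ih => rw [Finset.sum_insert ha, Finset.sum_insert ha, iterate_add, ih]

/-- the span of the image of a span is the span of the image -/
lemma span_image_span (S : Set V) :
    Submodule.span k (Φ '' (Submodule.span k S : Set V)) = Submodule.span k (Φ '' S) := by
  apply le_antisymm
  · rw [Submodule.span_le]
    rintro _ ⟨v, hv, rfl⟩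
    induction hv using Submodule.span_induction with
    | mem x hx => exact Submodule.subset_span ⟨x, hx, rfl⟩
    | zero => rw [map_zero]; exact Submodule.zero_mem _
    | add x y _ _ hx hy => rw [map_add]; exact Submodule.add_mem _ hx hy
    | smul c x _ hx => rw [map_smul_pow]; exact Submodule.smul_mem _ _ hx
  · exact Submodule.span_mono (Set.image_mono Submodule.subset_span)

/-- the span of the image of a subspace has dimension at most that of the subspace -/
lemma finrank_span_image_le [FiniteDimensional k V] (U : Submodule k V) :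
    Module.finrank k ↥(Submodule.span k (Φ '' (U : Set V))) ≤ Module.finrank k ↥U := by
  let b := Module.finBasis k ↥U
  have hU : U = Submodule.span k (Set.range (fun i => (b i : V))) := by
    have h1 := b.span_eq
    have h2 : Submodule.map U.subtype (Submodule.span k (Set.range b)) = U := by
      rw [h1, Submodule.map_top, Submodule.range_subtype]
    rw [Submodule.map_span] at h2
    have h3 : (⇑U.subtype '' Set.range ⇑b) = Set.range (fun i => (b i : V)) := by
      ext x
      simp
    rw [h3] at h2
    exact h2.symm
  have h3 : Submodule.span k (Φ '' (U : Set V)) =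
      Submodule.span k (Set.range (fun i => Φ (b i : V))) := by
    conv_lhs => rw [hU]
    rw [span_image_span, ← Set.range_comp]
    rfl
  rw [h3]
  refine le_trans (finrank_range_le_card _) ?_
  rw [Fintype.card_fin]

/-- `Φ` is semisimple when its image spans -/
def IsSS : Prop := Submodule.span k (Set.range Φ) = ⊤

variable {p r Φ}

lemma IsSS.injective [FiniteDimensional k V] (h : IsSS p r Φ) {v : V} (hv : Φ v = 0) : v = 0 := by
  by_contra hne
  obtain ⟨U, hU⟩ := Submodule.exists_isCompl (Submodule.span k ({v} : Set V))
  -- the image of `V` is spanned by the image of `U`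
  have h1 : Submodule.span k (Set.range Φ) ≤ Submodule.span k (Φ '' (U : Set V)) := by
    rw [Submodule.span_le]
    rintro _ ⟨w, rfl⟩
    have hw : w ∈ Submodule.span k ({v} : Set V) ⊔ U := by
      rw [hU.sup_eq_top]; exact Submodule.mem_top
    obtain ⟨a, ha, u, hu, rfl⟩ := Submodule.mem_sup.1 hw
    obtain ⟨c, rfl⟩ := Submodule.mem_span_singleton.1 ha
    rw [map_add, map_smul_pow, hv, smul_zero, zero_add]
    exact Submodule.subset_span ⟨u, hu, rfl⟩
  rw [h, top_le_iff] at h1
  have h2 := finrank_span_image_le p r Φ U
  rw [h1, finrank_top] at h2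
  have h3 := Submodule.finrank_add_eq_of_isCompl hU
  have h4 : Module.finrank k ↥(Submodule.span k ({v} : Set V)) = 1 := finrank_span_singleton hne
  omega

lemma IsSS.iterate_ne_zero [FiniteDimensional k V] (h : IsSS p r Φ) {v : V} (hv : v ≠ 0) (n : ℕ) :
    Φ^[n] v ≠ 0 := by
  induction n with
  | zero => simpa using hv
  | succ n ih =>
    rw [Function.iterate_succ_apply']
    exact fun h0 => ih (h.injective h0)

end Groth.Agent.Lib.Helper6.FrobSL
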