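import Mathlib
import Groth.Agent.Lib.Helper6.FrobSL.Basic

/-! Existence of a nonzero fixed vector of a semisimple Frobenius-semilinear endomorphism over a
separably closed field. -/

open scoped Classical
set_option linter.unusedSectionVars false
set_option autoImplicit false
noncomputable section

namespace Groth.Agent.Lib.Helper6.FrobSL
open Polynomial

variable {k : Type*} [Field k] {p : ℕ} [Fact p.Prime] [CharP k p] {r : ℕ}
variable {V : Type*} [AddCommGroup V] [Module k V]
variable {Φ : V →ₛₗ[iterateFrobenius k p r] V}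

section poly
variable (p r) (a : ℕ → k)

/-- the additive polynomials of the elimination -/
def PP : ℕ → k[X]
  | 0 => C (a 0) * X ^ (p ^ r)
  | (i + 1) => PP i ^ (p ^ r) + C (a (i + 1)) * X ^ (p ^ r)

lemma PP_zero : PP p r a 0 = C (a 0) * X ^ (p ^ r) := rfl
lemma PP_succ (i : ℕ) : PP p r a (i + 1) = PP p r a i ^ (p ^ r) + C (a (i + 1)) * X ^ (p ^ r) := rfl

lemma q_cast_eq_zero (hr : 0 < r) : ((p ^ r : ℕ) : k) = 0 :=
  (CharP.cast_eq_zero_iff k p (p ^ r)).2 (dvd_pow_self p hr.ne')

lemma two_le_q (hr : 0 < r) : 2 ≤ p ^ r := by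
  have h2 : 2 ≤ p := (Fact.out : p.Prime).two_le
  calc 2 ≤ p := h2
    _ = p ^ 1 := (pow_one p).symm
    _ ≤ p ^ r := Nat.pow_le_pow_right (by omega) hr

lemma derivative_C_mul_X_pow_q (hr : 0 < r) (c : k) :
    derivative (C c * X ^ (p ^ r) : k[X]) = 0 := by
  rw [derivative_C_mul_X_pow, q_cast_eq_zero p r hr, mul_zero, map_zero, zero_mul]

lemma derivative_PP (hr : 0 < r) (i : ℕ) : derivative (PP p r a i) = 0 := by
  induction i with
  | zero => rw [PP_zero]; exact derivative_C_mul_X_pow_q p r hr _
  | succ i ih =>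
    rw [PP_succ, derivative_add, derivative_C_mul_X_pow_q p r hr, add_zero, derivative_pow, ih,
      mul_zero]

lemma PP_inv (hr : 0 < r) (i : ℕ) :
    (PP p r a i = 0 ∧ ∀ j ≤ i, a j = 0) ∨ (PP p r a i ≠ 0 ∧ p ^ r ≤ (PP p r a i).natDegree) := by
  have hq := two_le_q (p := p) (r := r) hr
  induction i with
  | zero =>
    by_cases h0 : a 0 = 0
    · left
      refine ⟨by rw [PP_zero, h0, map_zero, zero_mul], fun j hj => ?_⟩
      rw [Nat.le_zero.1 hj]; exact h0
    · right
      rw [PP_zero, natDegree_C_mul_X_pow _ _ h0]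
      refine ⟨?_, le_rfl⟩
      intro h
      have := congrArg natDegree h
      rw [natDegree_C_mul_X_pow _ _ h0, natDegree_zero] at this
      omega
  | succ i ih =>
    rcases ih with ⟨h0, hz⟩ | ⟨hne, hdeg⟩
    · by_cases h1 : a (i + 1) = 0
      · left
        refine ⟨by rw [PP_succ, h0, zero_pow (by omega), zero_add, h1, map_zero, zero_mul],
          fun j hj => ?_⟩
        rcases Nat.lt_or_ge j (i + 1) with h | h
        · exact hz j (by omega)
        · rw [show j = i + 1 by omega]; exact h1
      · right
        rw [PP_succ, h0, zero_pow (by omega), zero_add, natDegree_C_mul_X_pow _ _ h1]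
        refine ⟨?_, le_rfl⟩
        intro h
        have := congrArg natDegree h
        rw [natDegree_C_mul_X_pow _ _ h1, natDegree_zero] at this
        omega
    · right
      have h1 : (PP p r a i ^ (p ^ r)).natDegree = p ^ r * (PP p r a i).natDegree := natDegree_pow _ _
      have h2 : (C (a (i + 1)) * X ^ (p ^ r) : k[X]).natDegree ≤ p ^ r := natDegree_C_mul_X_pow_le _ _
      have h3 : p ^ r < p ^ r * (PP p r a i).natDegree := by
        calc p ^ r = p ^ r * 1 := (mul_one _).symm
          _ < p ^ r * (PP p r a i).natDegree := by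
            apply Nat.mul_lt_mul_of_pos_left <;> omega
      have h4 : (PP p r a (i + 1)).natDegree = p ^ r * (PP p r a i).natDegree := by
        rw [PP_succ, natDegree_add_eq_left_of_natDegree_lt (by omega), h1]
      refine ⟨?_, by omega⟩
      intro h
      rw [h, natDegree_zero] at h4
      omega

end poly

section elim
variable (Φ) (u : V) (a : ℕ → k) (m' : ℕ)

/-- the candidate fixed vector -/
def xx (y : k) : V := ∑ i ∈ Finset.range (m' + 1), (PP p r a i).eval y • Φ^[i] u

lemma map_xx_sub (hrel : Φ^[m' + 1] u = ∑ i ∈ Finset.range (m' + 1), a i • Φ^[i] u) (y : k) :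
    Φ (xx Φ u a m' y) - xx Φ u a m' y =
      ((PP p r a m').eval y - y) ^ (p ^ r) • Φ^[m' + 1] u := by
  have h1 : Φ (xx Φ u a m' y) =
      ∑ i ∈ Finset.range m', ((PP p r a i).eval y) ^ (p ^ r) • Φ^[i + 1] u +
        ((PP p r a m').eval y) ^ (p ^ r) • Φ^[m' + 1] u := by
    unfold xx
    rw [map_sum, Finset.sum_range_succ]
    congr 1
    · refine Finset.sum_congr rfl fun i _ => ?_
      rw [map_smul_pow, Function.iterate_succ_apply']
    · rw [map_smul_pow, Function.iterate_succ_apply']
  have h2 : xx Φ u a m' y =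
      ∑ i ∈ Finset.range m', ((PP p r a i).eval y) ^ (p ^ r) • Φ^[i + 1] u +
        y ^ (p ^ r) • Φ^[m' + 1] u := by
    unfold xx
    rw [hrel, Finset.sum_range_succ', Finset.sum_range_succ' (fun i => a i • Φ^[i] u), smul_add,
      Finset.smul_sum, ← add_assoc, ← Finset.sum_add_distrib]
    congr 1
    · refine Finset.sum_congr rfl fun i _ => ?_
      rw [PP_succ, eval_add, eval_pow, eval_mul, eval_C, eval_pow, eval_X, add_smul, smul_smul,
        mul_comm]
    · rw [PP_zero, eval_mul, eval_C, eval_pow, eval_X, smul_smul, mul_comm]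
  rw [h1, h2, add_sub_add_left_eq_sub, ← sub_smul, sub_pow_char_pow]

end elim

/-- a nonzero fixed vector -/
theorem exists_fixed_ne_zero [IsSepClosed k] [FiniteDimensional k V] [Nontrivial V] (hr : 0 < r)
    (hss : IsSS p r Φ) : ∃ x : V, x ≠ 0 ∧ Φ x = x := by
  have hq := two_le_q (p := p) (r := r) hr
  obtain ⟨u, hu⟩ := exists_ne (0 : V)
  set e : ℕ → V := fun i => Φ^[i] u with he
  -- the first linear dependence among the iterates
  have hex : ∃ m, ¬ LinearIndependent k (fun i : Fin (m + 1) => e i) := by
    refine ⟨Module.finrank k V, fun h => ?_⟩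
    have := h.fintype_card_le_finrank
    rw [Fintype.card_fin] at this
    omega
  set m := Nat.find hex with hm
  have hm1 : ¬ LinearIndependent k (fun i : Fin (m + 1) => e i) := Nat.find_spec hex
  have hm0 : LinearIndependent k (fun i : Fin m => e i) := by
    rcases Nat.eq_zero_or_pos m with h0 | hpos
    · rw [h0]; exact linearIndependent_empty_type
    · have := Nat.find_min hex (m := m - 1) (by omega)
      rw [not_not] at this
      rw [show m - 1 + 1 = m by omega] at this
      exact this
  have hmem : e m ∈ Submodule.span k (Set.range (fun i : Fin m => e i)) := by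
    by_contra hcon
    apply hm1
    rw [linearIndependent_finSucc']
    exact ⟨hm0, hcon⟩
  have hmpos : 0 < m := by
    rcases Nat.eq_zero_or_pos m with h0 | hpos
    · exfalso
      rw [h0] at hmem
      have : Set.range (fun i : Fin 0 => e i) = ∅ := Set.range_eq_empty _
      rw [this, Submodule.span_empty, Submodule.mem_bot] at hmem
      exact hu hmem
    · exact hpos
  obtain ⟨m', hm'⟩ : ∃ m', m = m' + 1 := ⟨m - 1, by omega⟩
  rw [hm'] at hmem hm0
  obtain ⟨c, hc⟩ := (Submodule.mem_span_range_iff_exists_fun k).1 hmem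
  set a : ℕ → k := fun i => if h : i < m' + 1 then c ⟨i, h⟩ else 0 with ha
  have hrel : Φ^[m' + 1] u = ∑ i ∈ Finset.range (m' + 1), a i • Φ^[i] u := by
    rw [← Fin.sum_univ_eq_sum_range (fun i => a i • Φ^[i] u) (m' + 1)]
    rw [show Φ^[m' + 1] u = e (m' + 1) from rfl, ← hc]
    refine Finset.sum_congr rfl fun i _ => ?_
    show c i • e i = a i • e i
    rw [ha]
    simp only [Fin.is_lt, dif_pos, Fin.eta]
  -- the polynomial
  have hPne : PP p r a m' ≠ 0 ∧ p ^ r ≤ (PP p r a m').natDegree := by
    rcases PP_inv p r a hr m' with ⟨_, hz⟩ | h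
    · exfalso
      have h0 : Φ^[m' + 1] u = 0 := by
        rw [hrel]
        refine Finset.sum_eq_zero fun i hi => ?_
        rw [hz i (by have := Finset.mem_range.1 hi; omega), zero_smul]
      exact hss.iterate_ne_zero hu _ h0
    · exact h
  set Q : k[X] := PP p r a m' - X with hQ
  have hQder : derivative Q = -1 := by
    rw [hQ, derivative_sub, derivative_PP p r a hr, derivative_X, zero_sub]
  have hQsep : Q.Separable := by
    rw [separable_def, hQder]
    exact isCoprime_one_right.neg_right
  have hQdeg : Q.natDegree = (PP p r a m').natDegree := by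
    rw [hQ]
    apply natDegree_sub_eq_left_of_natDegree_lt
    rw [natDegree_X]
    omega
  have hsplit := IsSepClosed.splits_of_separable Q hQsep
  have hcard : Q.roots.card = Q.natDegree := splits_iff_card_roots.1 hsplit
  have hnodup : Q.roots.Nodup := nodup_roots hQsep
  have hfin : 1 < Q.roots.toFinset.card := by
    rw [Multiset.toFinset_card_of_nodup hnodup, hcard, hQdeg]
    omega
  obtain ⟨y, hy, hy0⟩ := Finset.exists_mem_ne hfin 0
  have hyroot : Q.IsRoot y := by
    rw [Multiset.mem_toFinset] at hy
    exact (mem_roots'.1 hy).2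
  have hyeq : (PP p r a m').eval y = y := by
    have : Q.eval y = 0 := hyroot
    rw [hQ, eval_sub, eval_X, sub_eq_zero] at this
    exact this
  refine ⟨xx Φ u a m' y, ?_, ?_⟩
  · -- nonzero
    intro h0
    unfold xx at h0
    rw [← Fin.sum_univ_eq_sum_range (fun i => (PP p r a i).eval y • Φ^[i] u) (m' + 1)] at h0
    have := (Fintype.linearIndependent_iff.1 hm0) (fun i => (PP p r a i).eval y) h0
      ⟨m', Nat.lt_succ_self _⟩
    simp only at this
    rw [hyeq] at this
    exact hy0 this
  · have := map_xx_sub Φ u a m' hrel y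
    rw [hyeq, sub_self, zero_pow (by omega), zero_smul, sub_eq_zero] at this
    exact this

end Groth.Agent.Lib.Helper6.FrobSL
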