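import Mathlib
import Groth.Agent.Lib.Helper6.FrobSL.Fixed

/-! A semisimple Frobenius-semilinear endomorphism over a separably closed field has a basis of
fixed vectors. -/

open scoped Classical
set_option linter.unusedSectionVars false
set_option autoImplicit false
noncomputable section

namespace Groth.Agent.Lib.Helper6.FrobSL

universe u v
variable {k : Type u} [Field k] {p : ℕ} [Fact p.Prime] [CharP k p] {r : ℕ}

section lift
variable {V : Type v} [AddCommGroup V] [Module k V]
variable {Φ : V →ₛₗ[iterateFrobenius k p r] V}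

lemma exists_fixed_lift [IsSepClosed k] (hr : 0 < r) {x : V} (hx : Φ x = x)
    (hW : Submodule.span k {x} ≤ Submodule.comap Φ (Submodule.span k {x}))
    (z : V ⧸ Submodule.span k ({x} : Set V))
    (hz : (Submodule.span k ({x} : Set V)).mapQ (Submodule.span k ({x} : Set V)) Φ hW z = z) :
    ∃ y : V, (Submodule.span k ({x} : Set V)).mkQ y = z ∧ Φ y = y := by
  obtain ⟨y0, rfl⟩ := Submodule.mkQ_surjective _ z
  have h1 : Φ y0 - y0 ∈ Submodule.span k ({x} : Set V) := by
    rw [← Submodule.Quotient.eq]
    exact hz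
  obtain ⟨c, hc⟩ := Submodule.mem_span_singleton.1 h1
  obtain ⟨t, ht⟩ := IsSepClosed.exists_root_C_mul_X_pow_add_C_mul_X_add_C' p (p ^ r) (1 : k) (-1) c
    (dvd_pow_self p hr.ne') (two_le_q p r hr) (neg_ne_zero.2 one_ne_zero)
  refine ⟨y0 + t • x, ?_, ?_⟩
  · rw [map_add, map_smul]
    have : (Submodule.span k ({x} : Set V)).mkQ x = 0 :=
      (Submodule.Quotient.mk_eq_zero _).2 (Submodule.mem_span_singleton_self x)
    rw [this, smul_zero, add_zero]
  · rw [map_add, map_smul_pow, hx]
    have h2 : Φ y0 = y0 + c • x := by rw [hc]; abel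
    rw [h2, add_assoc, ← add_smul]
    congr 2
    linear_combination ht

end lift

theorem exists_basis_fixed_aux [IsSepClosed k] (hr : 0 < r) :
    ∀ (n : ℕ) (V : Type v) [AddCommGroup V] [Module k V] [FiniteDimensional k V]
      (Φ : V →ₛₗ[iterateFrobenius k p r] V), IsSS p r Φ → Module.finrank k V = n →
      ∃ b : Module.Basis (Fin n) k V, ∀ i, Φ (b i) = b i := by
  intro n
  induction n with
  | zero =>
    intro V _ _ _ Φ _ hn
    haveI : Subsingleton V := Module.finrank_zero_iff.1 hn
    exact ⟨Module.Basis.empty V, fun i => i.elim0⟩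
  | succ n ih =>
    intro V _ _ _ Φ hss hn
    haveI : Nontrivial V := Module.nontrivial_of_finrank_pos (R := k) (by omega)
    obtain ⟨x, hx0, hx⟩ := exists_fixed_ne_zero hr hss
    have hW : Submodule.span k ({x} : Set V) ≤
        Submodule.comap Φ (Submodule.span k ({x} : Set V)) := by
      intro w hw
      obtain ⟨c, rfl⟩ := Submodule.mem_span_singleton.1 hw
      rw [Submodule.mem_comap, map_smul_pow, hx]
      exact Submodule.smul_mem _ _ (Submodule.mem_span_singleton_self x)
    set W : Submodule k V := Submodule.span k ({x} : Set V) with hWdef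
    set Φ' := W.mapQ W Φ hW with hΦ'
    have hss' : IsSS p r Φ' := by
      unfold IsSS
      rw [eq_top_iff]
      have h1 : Submodule.map W.mkQ (Submodule.span k (Set.range Φ)) = ⊤ := by
        rw [hss, Submodule.map_top, Submodule.range_mkQ]
      rw [← h1, Submodule.map_span]
      apply Submodule.span_mono
      rintro _ ⟨_, ⟨w, rfl⟩, rfl⟩
      exact ⟨W.mkQ w, rfl⟩
    have hn' : Module.finrank k (V ⧸ W) = n := by
      have h1 := Submodule.finrank_quotient_add_finrank W
      have h2 : Module.finrank k ↥W = 1 := finrank_span_singleton hx0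
      omega
    obtain ⟨b', hb'⟩ := ih (V ⧸ W) Φ' hss' hn'
    have hlift : ∀ i, ∃ y : V, W.mkQ y = b' i ∧ Φ y = y := fun i =>
      exists_fixed_lift hr hx hW (b' i) (hb' i)
    choose y hy1 hy2 using hlift
    set v : Fin (n + 1) → V := Fin.cons x y with hv
    have hspan : ⊤ ≤ Submodule.span k (Set.range v) := by
      intro w _
      have h1 : W.mkQ (w - ∑ i, b'.repr (W.mkQ w) i • y i) = 0 := by
        rw [map_sub, map_sum]
        simp only [map_smul, hy1]
        rw [b'.sum_repr, sub_self]
      have h2 : w - ∑ i, b'.repr (W.mkQ w) i • y i ∈ W :=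
        (Submodule.Quotient.mk_eq_zero _).1 h1
      have h3 : W ≤ Submodule.span k (Set.range v) := by
        rw [hWdef, Submodule.span_le, Set.singleton_subset_iff]
        exact Submodule.subset_span ⟨0, rfl⟩
      have h4 : ∑ i, b'.repr (W.mkQ w) i • y i ∈ Submodule.span k (Set.range v) := by
        refine Submodule.sum_mem _ fun i _ => Submodule.smul_mem _ _ ?_
        exact Submodule.subset_span ⟨i.succ, by rw [hv, Fin.cons_succ]⟩
      have h5 := Submodule.add_mem _ (h3 h2) h4
      rw [sub_add_cancel] at h5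
      exact h5
    refine ⟨basisOfTopLeSpanOfCardEqFinrank v hspan (by rw [Fintype.card_fin, hn]), fun i => ?_⟩
    rw [coe_basisOfTopLeSpanOfCardEqFinrank]
    refine Fin.cases ?_ (fun j => ?_) i
    · rw [hv, Fin.cons_zero]; exact hx
    · rw [hv, Fin.cons_succ]; exact hy2 j

/-- a semisimple Frobenius-semilinear endomorphism has a basis of fixed vectors -/
theorem exists_basis_fixed [IsSepClosed k] (hr : 0 < r) {V : Type v} [AddCommGroup V] [Module k V]
    [FiniteDimensional k V] (Φ : V →ₛₗ[iterateFrobenius k p r] V) (hss : IsSS p r Φ) :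
    ∃ b : Module.Basis (Fin (Module.finrank k V)) k V, ∀ i, Φ (b i) = b i :=
  exists_basis_fixed_aux hr _ V Φ hss rfl

end Groth.Agent.Lib.Helper6.FrobSL
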