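import Mathlib
import Groth.Agent.Lib.Helper6.FrobSL.Basis

/-! The semisimple part of a Frobenius-semilinear endomorphism. -/

open scoped Classical
set_option linter.unusedSectionVars false
set_option autoImplicit false
noncomputable section

namespace Groth.Agent.Lib.Helper6.FrobSL

universe u v
variable {k : Type u} [Field k] {p : ℕ} [Fact p.Prime] [CharP k p] {r : ℕ}
variable {V : Type v} [AddCommGroup V] [Module k V]
variable (Φ : V →ₛₗ[iterateFrobenius k p r] V)

/-- the span of the image of the `(n+1)`-st iterate -/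
def Wn (n : ℕ) : Submodule k V := Submodule.span k (Set.range Φ^[n + 1])

/-- the semisimple part -/
def Vss : Submodule k V := ⨅ n : ℕ, Wn Φ n

lemma Wn_succ (n : ℕ) : Wn Φ (n + 1) = Submodule.span k (Φ '' (Wn Φ n : Set V)) := by
  unfold Wn
  rw [span_image_span, ← Set.range_comp]
  congr 2
  funext v
  rw [Function.comp_apply, ← Function.iterate_succ_apply' Φ (n + 1) v]

lemma Wn_succ_le (n : ℕ) : Wn Φ (n + 1) ≤ Wn Φ n := by
  unfold Wn
  apply Submodule.span_mono
  rintro _ ⟨v, rfl⟩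
  exact ⟨Φ v, by rw [← Function.iterate_succ_apply Φ (n + 1) v]⟩

lemma Wn_antitone : Antitone (Wn Φ) := antitone_nat_of_succ_le (Wn_succ_le Φ)

lemma exists_Vss_eq [FiniteDimensional k V] :
    ∃ N, Vss Φ = Wn Φ N ∧ Wn Φ (N + 1) = Wn Φ N := by
  let f : ℕ →o (Submodule k V)ᵒᵈ :=
    ⟨fun n => OrderDual.toDual (Wn Φ n), fun a b hab => Wn_antitone Φ hab⟩
  obtain ⟨N, hN⟩ := IsArtinian.monotone_stabilizes f
  have hN' : ∀ m, N ≤ m → Wn Φ N = Wn Φ m := fun m hm => congrArg OrderDual.ofDual (hN m hm)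
  refine ⟨N, ?_, (hN' (N + 1) (Nat.le_succ N)).symm⟩
  apply le_antisymm
  · exact iInf_le _ N
  · refine le_iInf fun n => ?_
    rcases le_total n N with h | h
    · exact Wn_antitone Φ h
    · rw [hN' n h]

lemma Vss_eq_span_image [FiniteDimensional k V] :
    Vss Φ = Submodule.span k (Φ '' (Vss Φ : Set V)) := by
  obtain ⟨N, h1, h2⟩ := exists_Vss_eq Φ
  rw [h1]
  conv_lhs => rw [← h2, Wn_succ]

lemma map_mem_Vss {v : V} (hv : v ∈ Vss Φ) : Φ v ∈ Vss Φ := by
  unfold Vss at hv ⊢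
  rw [Submodule.mem_iInf] at hv ⊢
  intro n
  apply Wn_succ_le Φ n
  rw [Wn_succ]
  exact Submodule.subset_span ⟨v, hv n, rfl⟩

lemma fixed_mem_Vss {v : V} (hv : Φ v = v) : v ∈ Vss Φ := by
  unfold Vss
  rw [Submodule.mem_iInf]
  intro n
  refine Submodule.subset_span ⟨v, ?_⟩
  exact Function.iterate_fixed hv (n + 1)

/-- the restriction of `Φ` to its semisimple part -/
def restr : ↥(Vss Φ) →ₛₗ[iterateFrobenius k p r] ↥(Vss Φ) :=
  (Φ.domRestrict (Vss Φ)).codRestrict (Vss Φ) (fun v => map_mem_Vss Φ v.2)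

@[simp] lemma restr_coe (v : ↥(Vss Φ)) : ((restr Φ v : ↥(Vss Φ)) : V) = Φ (v : V) := rfl

lemma isSS_restr [FiniteDimensional k V] : IsSS p r (restr Φ) := by
  unfold IsSS
  apply Submodule.map_injective_of_injective (Vss Φ).injective_subtype
  rw [Submodule.map_top, Submodule.range_subtype, Submodule.map_span]
  conv_rhs => rw [Vss_eq_span_image Φ]
  congr 1
  ext w
  constructor
  · rintro ⟨_, ⟨v, rfl⟩, rfl⟩
    exact ⟨v.1, v.2, rfl⟩
  · rintro ⟨v, hv, rfl⟩
    exact ⟨restr Φ ⟨v, hv⟩, ⟨⟨v, hv⟩, rfl⟩, rfl⟩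

/-- the semisimple part has a basis of fixed vectors, and every fixed vector is a combination of
them with coefficients in the fixed field -/
theorem exists_basis_Vss [IsSepClosed k] [FiniteDimensional k V] (hr : 0 < r) :
    ∃ b : Module.Basis (Fin (Module.finrank k ↥(Vss Φ))) k ↥(Vss Φ),
      (∀ i, Φ (b i : V) = (b i : V)) ∧
      ∀ v : V, Φ v = v → ∃ c : Fin (Module.finrank k ↥(Vss Φ)) → k,
        (∀ i, c i ^ (p ^ r) = c i) ∧ v = ∑ i, c i • (b i : V) := by
  obtain ⟨b, hb⟩ := exists_basis_fixed hr (restr Φ) (isSS_restr Φ)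
  refine ⟨b, fun i => ?_, fun v hv => ?_⟩
  · have := congrArg Subtype.val (hb i)
    exact this
  · set w : ↥(Vss Φ) := ⟨v, fixed_mem_Vss Φ hv⟩ with hw
    have hfix : restr Φ w = w := Subtype.ext hv
    refine ⟨fun i => b.repr w i, fun i => ?_, ?_⟩
    · have h1 : restr Φ w = ∑ j, (b.repr w j) ^ (p ^ r) • b j := by
        conv_lhs => rw [← b.sum_repr w]
        rw [map_sum]
        refine Finset.sum_congr rfl fun j _ => ?_
        rw [map_smul_pow, hb]
      rw [hfix] at h1
      have h2 : b.repr w i = b.repr (∑ j, (b.repr w j) ^ (p ^ r) • b j) i :=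
        congrArg (fun z => b.repr z i) h1
      rw [b.repr_sum_self] at h2
      exact h2.symm
    · have h1 : ((∑ i, b.repr w i • b i : ↥(Vss Φ)) : V) = v := congrArg Subtype.val (b.sum_repr w)
      refine h1.symm.trans ?_
      rw [Submodule.coe_sum]
      rfl

end Groth.Agent.Lib.Helper6.FrobSL
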