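import Mathlib
import Groth.Agent.Lib.Helper6.FrobSL.SSPart

/-! Fixed vectors of the base change of a Frobenius-semilinear endomorphism. -/

open scoped Classical TensorProduct
set_option linter.unusedSectionVars false
set_option autoImplicit false
noncomputable section

namespace Groth.Agent.Lib.Helper6.FrobSL

universe u v w
variable {k : Type u} [Field k] {p : ℕ} [Fact p.Prime] [CharP k p] {r : ℕ}
variable {V : Type v} [AddCommGroup V] [Module k V]
variable (Φ : V →ₛₗ[iterateFrobenius k p r] V)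
variable {K : Type w} [Field K] [Algebra k K]
variable (F' : K ⊗[k] V →+ K ⊗[k] V)
variable (hF' : ∀ (c : K) (v : V), F' (c ⊗ₜ[k] v) = (c ^ (p ^ r)) ⊗ₜ[k] Φ v)

include hF' in
lemma bc_map_smul (c : K) (z : K ⊗[k] V) : F' (c • z) = c ^ (p ^ r) • F' z := by
  induction z using TensorProduct.induction_on with
  | zero => simp
  | tmul a v => rw [TensorProduct.smul_tmul', hF', hF', smul_eq_mul, mul_pow,
      TensorProduct.smul_tmul', smul_eq_mul]
  | add x y hx hy => rw [smul_add, map_add, map_add, hx, hy, smul_add]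

include hF' in
lemma bc_iterate_tmul (m : ℕ) (c : K) (v : V) :
    F'^[m] (c ⊗ₜ[k] v) = (c ^ ((p ^ r) ^ m)) ⊗ₜ[k] Φ^[m] v := by
  induction m generalizing c v with
  | zero => simp
  | succ m ih =>
    rw [Function.iterate_succ_apply', Function.iterate_succ_apply', ih, hF', ← pow_mul, ← pow_succ]

include hF' in
lemma bc_iterate_mem (m : ℕ) (z : K ⊗[k] V) :
    F'^[m] z ∈ Submodule.span K ((fun u : V => (1 : K) ⊗ₜ[k] u) '' Set.range Φ^[m]) := by
  induction z using TensorProduct.induction_on with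
  | zero =>
    rw [iterate_map_zero]
    exact Submodule.zero_mem _
  | tmul c v =>
    rw [bc_iterate_tmul Φ F' hF']
    have : (c ^ ((p ^ r) ^ m)) ⊗ₜ[k] Φ^[m] v = (c ^ ((p ^ r) ^ m)) • ((1 : K) ⊗ₜ[k] Φ^[m] v) := by
      rw [TensorProduct.smul_tmul', smul_eq_mul, mul_one]
    rw [this]
    exact Submodule.smul_mem _ _ (Submodule.subset_span ⟨_, ⟨v, rfl⟩, rfl⟩)
  | add x y hx hy =>
    rw [iterate_map_add]
    exact Submodule.add_mem _ hx hy

include hF' in
/-- fixed vectors of the base change are combinations of the fixed basis vectors of the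
semisimple part with coefficients in the fixed field -/
theorem bc_fixed [FiniteDimensional k V]
    (b : Module.Basis (Fin (Module.finrank k ↥(Vss Φ))) k ↥(Vss Φ))
    (hb : ∀ i, Φ (b i : V) = (b i : V)) (hr : 0 < r) (z : K ⊗[k] V) (hz : F' z = z) :
    ∃ c : Fin (Module.finrank k ↥(Vss Φ)) → K,
      (∀ i, c i ^ (p ^ r) = c i) ∧ z = ∑ i, c i • ((1 : K) ⊗ₜ[k] (b i : V)) := by
  obtain ⟨N, hN, _⟩ := exists_Vss_eq Φ
  have h1 : z ∈ Submodule.span K (Set.range (fun i => (1 : K) ⊗ₜ[k] (b i : V))) := by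
    have h2 := bc_iterate_mem Φ F' hF' (N + 1) z
    rw [Function.iterate_fixed hz] at h2
    refine Submodule.span_le.2 ?_ h2
    rintro _ ⟨u, ⟨v, rfl⟩, rfl⟩
    have hu : Φ^[N + 1] v ∈ Vss Φ := by
      rw [hN]
      exact Submodule.subset_span ⟨v, rfl⟩
    set u' : ↥(Vss Φ) := ⟨Φ^[N + 1] v, hu⟩ with hu'
    have h3 : Φ^[N + 1] v = ∑ i, b.repr u' i • (b i : V) := by
      have := congrArg Subtype.val (b.sum_repr u')
      rw [Submodule.coe_sum] at this
      exact this.symm
    show (1 : K) ⊗ₜ[k] Φ^[N + 1] v ∈ _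
    rw [h3, TensorProduct.tmul_sum]
    refine Submodule.sum_mem _ fun i _ => ?_
    rw [TensorProduct.tmul_smul]
    exact Submodule.smul_of_tower_mem _ _ (Submodule.subset_span ⟨i, rfl⟩)
  obtain ⟨c, hc⟩ := (Submodule.mem_span_range_iff_exists_fun K).1 h1
  have hli : LinearIndependent K (fun i => (1 : K) ⊗ₜ[k] (b i : V)) := by
    have h4 : LinearIndependent k (fun i => (b i : V)) :=
      b.linearIndependent.map' (Vss Φ).subtype (Submodule.ker_subtype _)
    exact Module.Flat.linearIndependent_one_tmul h4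
  refine ⟨c, fun i => ?_, hc.symm⟩
  have h5 : F' z = ∑ i, c i ^ (p ^ r) • ((1 : K) ⊗ₜ[k] (b i : V)) := by
    rw [← hc, map_sum]
    refine Finset.sum_congr rfl fun i _ => ?_
    rw [bc_map_smul Φ F' hF', hF', one_pow, hb]
  rw [hz, ← hc] at h5
  have h6 : Fintype.linearCombination K (fun i => (1 : K) ⊗ₜ[k] (b i : V)) c =
      Fintype.linearCombination K (fun i => (1 : K) ⊗ₜ[k] (b i : V)) (fun i => c i ^ (p ^ r)) := by
    rw [Fintype.linearCombination_apply, Fintype.linearCombination_apply]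
    exact h5
  have := congrFun (hli.fintypeLinearCombination_injective h6) i
  exact this.symm

end Groth.Agent.Lib.Helper6.FrobSL
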