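import Mathlib
import Groth.Agent.Lib.Helper6.FrobSL.Basis

/-! Existence of a cyclic vector for a semisimple Frobenius-semilinear endomorphism over a
separably closed field. -/

open scoped Classical
set_option linter.unusedSectionVars false
set_option autoImplicit false
noncomputable section

namespace Groth.Agent.Lib.Helper6.FrobSL
open Polynomial

universe u v

variable {k : Type u} [Field k] {p : ℕ} [Fact p.Prime] [CharP k p] [IsSepClosed k]

variable (k) in
lemma infinite_of_isSepClosed : Infinite k := by
  apply Infinite.of_not_fintype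
  intro hfin
  set q := Fintype.card k with hq
  set f : k[X] := X ^ q - X - 1 with hf
  have hq0 : ((q : ℕ) : k) = 0 := FiniteField.cast_card_eq_zero k
  have hq2 : 2 ≤ q := Fintype.one_lt_card
  have hder : derivative f = -1 := by
    rw [hf, derivative_sub, derivative_sub, derivative_X_pow, hq0, map_zero, zero_mul, derivative_X,
      derivative_one, zero_sub, sub_zero]
  have hsep : f.Separable := by
    rw [separable_def, hder]
    exact isCoprime_one_right.neg_right
  have hdeg : f.degree ≠ 0 := by
    intro h
    have h1 := eq_C_of_degree_eq_zero h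
    rw [h1, derivative_C] at hder
    exact one_ne_zero (neg_eq_zero.1 hder.symm)
  obtain ⟨a, ha⟩ := IsSepClosed.exists_root f hdeg hsep
  rw [hf, IsRoot.def, eval_sub, eval_sub, eval_pow, eval_X, eval_one, hq, FiniteField.pow_card,
    sub_self, zero_sub, neg_eq_zero] at ha
  exact one_ne_zero ha

variable (k p) in
lemma exists_li_zmod (n : ℕ) :
    letI := ZMod.algebra k p
    ∃ l : Fin n → k, LinearIndependent (ZMod p) l := by
  letI := ZMod.algebra k p
  induction n with
  | zero => exact ⟨fun i => i.elim0, linearIndependent_empty_type⟩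
  | succ n ih =>
    obtain ⟨l, hl⟩ := ih
    haveI := infinite_of_isSepClosed k
    have hfin : (Submodule.span (ZMod p) (Set.range l) : Set k).Finite := by
      haveI : Module.Finite (ZMod p) (Submodule.span (ZMod p) (Set.range l)) :=
        Module.Finite.span_of_finite (ZMod p) (Set.finite_range l)
      haveI : Finite (Submodule.span (ZMod p) (Set.range l)) := Module.finite_of_finite (ZMod p)
      exact Set.toFinite _
    obtain ⟨z, hz⟩ := hfin.exists_notMem
    exact ⟨Fin.snoc l z, linearIndependent_finSnoc.2 ⟨hl, hz⟩⟩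

/-- a cyclic vector -/
theorem exists_cyclic {V : Type v} [AddCommGroup V] [Module k V] [FiniteDimensional k V]
    (Φ : V →ₛₗ[iterateFrobenius k p 1] V) (hss : IsSS p 1 Φ) :
    ∃ u : V, LinearIndependent k (fun i : Fin (Module.finrank k V) => Φ^[i] u) := by
  have hp2 : 2 ≤ p := (Fact.out : p.Prime).two_le
  set n := Module.finrank k V with hn
  obtain ⟨b, hb⟩ := exists_basis_fixed (by norm_num : 0 < 1) Φ hss
  letI := ZMod.algebra k p
  obtain ⟨l, hl⟩ := exists_li_zmod k p n
  refine ⟨∑ i, l i • b i, ?_⟩
  have hiter : ∀ j : ℕ, Φ^[j] (∑ i, l i • b i) = ∑ i, (l i) ^ (p ^ j) • b i := by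
    intro j
    rw [iterate_sum]
    refine Finset.sum_congr rfl fun i _ => ?_
    rw [iterate_smul, Function.iterate_fixed (hb i), pow_one]
  rw [Fintype.linearIndependent_iff]
  intro g hg j0
  have hg2 : ∀ i, ∑ j : Fin n, g j * (l i) ^ (p ^ (j : ℕ)) = 0 := by
    have h1 : ∑ i, (∑ j : Fin n, g j * (l i) ^ (p ^ (j : ℕ))) • b i = 0 := by
      rw [← hg]
      simp_rw [hiter, Finset.smul_sum, Finset.sum_smul, smul_smul]
      rw [Finset.sum_comm]
    exact Fintype.linearIndependent_iff.1 b.linearIndependent _ h1
  set L : k[X] := ∑ j : Fin n, C (g j) * X ^ (p ^ (j : ℕ)) with hL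
  have hevalL : ∀ z : k, L.eval z = ∑ j : Fin n, g j * z ^ (p ^ (j : ℕ)) := by
    intro z
    rw [hL, eval_finsetSum]
    refine Finset.sum_congr rfl fun j _ => ?_
    rw [eval_mul, eval_C, eval_pow, eval_X]
  have hroot : ∀ a : Fin n → ZMod p, L.eval (∑ i, a i • l i) = 0 := by
    intro a
    rw [hevalL]
    have h1 : ∀ j : ℕ, (∑ i, a i • l i) ^ (p ^ j) = ∑ i, a i • (l i) ^ (p ^ j) := by
      intro j
      rw [sum_pow_char_pow]
      refine Finset.sum_congr rfl fun i _ => ?_
      rw [_root_.smul_pow, ZMod.pow_card_pow]
    simp_rw [h1, Finset.mul_sum, mul_smul_comm]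
    rw [Finset.sum_comm]
    simp_rw [← Finset.smul_sum, hg2, smul_zero, Finset.sum_const_zero]
  have hL0 : L = 0 := by
    by_contra hne
    have hinj : Function.Injective (fun a : Fin n → ZMod p => ∑ i, a i • l i) := by
      have := hl.fintypeLinearCombination_injective
      intro a a' h
      apply this
      simpa [Fintype.linearCombination_apply] using h
    have hcard : Fintype.card (Fin n → ZMod p) ≤ L.roots.toFinset.card := by
      rw [← Fintype.card_coe]
      refine Fintype.card_le_of_injective
        (fun a => ⟨∑ i, a i • l i, by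
          rw [Multiset.mem_toFinset, mem_roots hne]; exact hroot a⟩) ?_
      intro a a' h
      exact hinj (congrArg Subtype.val h)
    have h2 : L.roots.toFinset.card ≤ L.natDegree :=
      (Multiset.toFinset_card_le _).trans (card_roots' L)
    have hn1 : 1 ≤ n := by
      have := j0.2
      omega
    have h3 : L.natDegree ≤ p ^ (n - 1) := by
      rw [hL]
      apply natDegree_sum_le_of_forall_le
      intro j _
      refine (natDegree_C_mul_X_pow_le _ _).trans ?_
      apply Nat.pow_le_pow_right (by omega)
      have := j.2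
      omega
    have h4 : Fintype.card (Fin n → ZMod p) = p ^ n := by
      simp [ZMod.card]
    have h5 : p ^ (n - 1) < p ^ n := Nat.pow_lt_pow_right (by omega) (by omega)
    omega
  have hcoeff : L.coeff (p ^ (j0 : ℕ)) = g j0 := by
    rw [hL, finsetSum_coeff]
    rw [Finset.sum_eq_single j0]
    · rw [coeff_C_mul_X_pow, if_pos rfl]
    · intro j _ hj
      rw [coeff_C_mul_X_pow, if_neg]
      intro h
      apply hj
      exact Fin.ext (Nat.pow_right_injective hp2 h).symm
    · intro h; exact absurd (Finset.mem_univ _) h
  rw [← hcoeff, hL0, coeff_zero]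

end Groth.Agent.Lib.Helper6.FrobSL
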