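import Mathlib

/-! Extension step: a Frobenius-semilinear additive map preserving a submodule; `T - 1` on the
submodule and on the quotient control `T - 1` on the module. -/

open scoped Classical
set_option linter.unusedSectionVars false
set_option autoImplicit false
noncomputable section

namespace Groth.Agent.Lib.Helper6.FrobSL

universe u v

variable {R : Type u} [CommRing R] {p : ℕ} [Fact p.Prime] [CharP R p]
variable {M : Type v} [AddCommGroup M] [Module R M]
variable (T : M →+ M) (hT : ∀ (r : R) (m : M), T (r • m) = r ^ p • T m)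
variable (N : Submodule R M) (hN : ∀ x ∈ N, T x ∈ N)

/-- `T` as a semilinear map -/
def Tsl : M →ₛₗ[frobenius R p] M where
  toFun := T
  map_add' := T.map_add
  map_smul' := by
    intro r m
    simp [hT, frobenius_def]

/-- restriction to a stable submodule -/
def Tres : N →+ N where
  toFun x := ⟨T x, hN x x.2⟩
  map_zero' := by ext; simp
  map_add' := by intro x y; ext; simp

@[simp] lemma Tres_coe (x : N) : ((Tres T N hN x : N) : M) = T x := rfl

include hT in
lemma Tres_smul (r : R) (x : N) : Tres T N hN (r • x) = r ^ p • Tres T N hN x := by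
  ext
  simp [hT]

/-- induced map on the quotient -/
def Tquot : M ⧸ N →+ M ⧸ N :=
  (Submodule.mapQ N N (Tsl T hT) (fun x hx => hN x hx)).toAddMonoidHom

@[simp] lemma Tquot_mk (x : M) :
    Tquot T hT N hN (Submodule.Quotient.mk x) = Submodule.Quotient.mk (T x) := rfl

lemma Tquot_smul (r : R) (q : M ⧸ N) :
    Tquot T hT N hN (r • q) = r ^ p • Tquot T hT N hN q := by
  obtain ⟨x, rfl⟩ := Submodule.Quotient.mk_surjective N q
  rw [← Submodule.Quotient.mk_smul, Tquot_mk, Tquot_mk, hT, Submodule.Quotient.mk_smul]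

variable (hsN : ∀ y : N, ∃ x : N, Tres T N hN x - x = y)
variable (hsQ : Function.Surjective (fun q : M ⧸ N => Tquot T hT N hN q - q))

include hsN hsQ in
lemma ext_surjective : Function.Surjective (fun m : M => T m - m) := by
  intro y
  obtain ⟨q, hq⟩ := hsQ (Submodule.Quotient.mk y)
  obtain ⟨x, rfl⟩ := Submodule.Quotient.mk_surjective N q
  have hmem : y - (T x - x) ∈ N := by
    rw [← Submodule.Quotient.mk_eq_zero N, Submodule.Quotient.mk_sub, Submodule.Quotient.mk_sub,
      ← Tquot_mk T hT N hN]
    simp only at hq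
    rw [hq, sub_self]
  obtain ⟨z, hz⟩ := hsN ⟨_, hmem⟩
  have hz' : T z - z = y - (T x - x) := by
    have := congrArg Subtype.val hz
    simpa using this
  refine ⟨x + z, ?_⟩
  show T (x + z) - (x + z) = y
  rw [map_add]
  have : T x + T z - (x + z) = (T x - x) + (T z - z) := by abel
  rw [this, hz']
  abel

include hsN in
lemma exists_fixed_lift' (q : M ⧸ N) (hq : Tquot T hT N hN q = q) :
    ∃ s : M, T s = s ∧ Submodule.Quotient.mk s = q := by
  obtain ⟨x, rfl⟩ := Submodule.Quotient.mk_surjective N q
  have hmem : -(T x - x) ∈ N := by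
    rw [← Submodule.Quotient.mk_eq_zero N, Submodule.Quotient.mk_neg, Submodule.Quotient.mk_sub,
      ← Tquot_mk T hT N hN, hq, sub_self, neg_zero]
  obtain ⟨z, hz⟩ := hsN ⟨_, hmem⟩
  have hz' : T z - z = -(T x - x) := by
    have := congrArg Subtype.val hz
    simpa using this
  refine ⟨x + z, ?_, ?_⟩
  · rw [map_add]
    have h1 : T x + T z = (x + z) + ((T x - x) + (T z - z)) := by abel
    rw [h1, hz']
    abel
  · rw [Submodule.Quotient.mk_add, (Submodule.Quotient.mk_eq_zero N).2 z.2, add_zero]

include hsN in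
lemma ext_card :
    Nat.card {m : M // T m = m} =
      Nat.card {q : M ⧸ N // Tquot T hT N hN q = q} * Nat.card {x : N // Tres T N hN x = x} := by
  rw [← Nat.card_prod]
  set s : {q : M ⧸ N // Tquot T hT N hN q = q} → M :=
    fun q => (exists_fixed_lift' T hT N hN hsN q.1 q.2).choose with hs
  have hs1 : ∀ q, T (s q) = s q := fun q => (exists_fixed_lift' T hT N hN hsN q.1 q.2).choose_spec.1
  have hs2 : ∀ q, Submodule.Quotient.mk (s q) = q.1 :=
    fun q => (exists_fixed_lift' T hT N hN hsN q.1 q.2).choose_spec.2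
  have hfixq : ∀ m : {m : M // T m = m},
      Tquot T hT N hN (Submodule.Quotient.mk m.1) = Submodule.Quotient.mk m.1 := by
    intro m; rw [Tquot_mk, m.2]
  refine Nat.card_congr
    ⟨fun m => (⟨Submodule.Quotient.mk m.1, hfixq m⟩,
        ⟨⟨m.1 - s ⟨Submodule.Quotient.mk m.1, hfixq m⟩, ?_⟩, ?_⟩),
      fun qx => ⟨s qx.1 + qx.2.1.1, ?_⟩, ?_, ?_⟩
  · rw [← Submodule.Quotient.mk_eq_zero N, Submodule.Quotient.mk_sub, hs2, sub_self]
  · apply Subtype.ext
    show T (m.1 - s _) = m.1 - s _
    rw [map_sub, m.2, hs1]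
  · rw [map_add, hs1]
    have := congrArg Subtype.val qx.2.2
    simp only [Tres_coe] at this
    rw [this]
  · intro m
    apply Subtype.ext
    simp
  · rintro ⟨q, ⟨x, hxN⟩, hx⟩
    have hq' : (Submodule.Quotient.mk (s q + x) : M ⧸ N) = q.1 := by
      rw [Submodule.Quotient.mk_add, hs2, (Submodule.Quotient.mk_eq_zero N).2 hxN, add_zero]
    have hq'' : (⟨Submodule.Quotient.mk (s q + x), hfixq ⟨s q + x, by
        rw [map_add, hs1]
        have := congrArg Subtype.val hx
        simp only [Tres_coe] at this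
        rw [this]⟩⟩ : {q : M ⧸ N // Tquot T hT N hN q = q}) = q := Subtype.ext hq'
    refine Prod.ext hq'' ?_
    apply Subtype.ext
    apply Subtype.ext
    show s q + x - s _ = x
    rw [hq'']
    abel

end Groth.Agent.Lib.Helper6.FrobSL
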