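import Mathlib

/-! Elimination: for a Frobenius-semilinear additive map with a cyclic basis, the equation
`T x - x = y` is equivalent to a one-variable polynomial equation. -/

open scoped Classical
set_option linter.unusedSectionVars false
set_option autoImplicit false
noncomputable section

namespace Groth.Agent.Lib.Helper6.FrobSL
open Polynomial

section poly
variable {R : Type*} [CommRing R] (p : ℕ) {m : ℕ} (c y : Fin (m + 1) → R)

/-- the polynomials of the elimination -/
def PQ : Fin (m + 1) → R[X] :=
  Fin.induction (motive := fun _ => R[X]) (C (c 0) * X ^ p - C (y 0))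
    (fun j Pj => Pj ^ p + C (c j.succ) * X ^ p - C (y j.succ))

lemma PQ_zero : PQ p c y 0 = C (c 0) * X ^ p - C (y 0) := by
  rfl

lemma PQ_succ (j : Fin m) :
    PQ p c y j.succ = PQ p c y j.castSucc ^ p + C (c j.succ) * X ^ p - C (y j.succ) := by
  rfl

lemma eval_PQ_zero (Y : R) : (PQ p c y 0).eval Y = c 0 * Y ^ p - y 0 := by
  rw [PQ_zero]; simp

lemma eval_PQ_succ (j : Fin m) (Y : R) :
    (PQ p c y j.succ).eval Y = (PQ p c y j.castSucc).eval Y ^ p + c j.succ * Y ^ p - y j.succ := by
  rw [PQ_succ]; simp

lemma natDegree_add_low [Nontrivial R] {A B : R[X]} (hA : IsUnit A.leadingCoeff)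
    (hB : B.natDegree < A.natDegree) :
    (A + B).natDegree = A.natDegree ∧ IsUnit (A + B).leadingCoeff := by
  refine ⟨natDegree_add_eq_left_of_natDegree_lt hB, ?_⟩
  rw [leadingCoeff_add_of_degree_lt' (degree_lt_degree hB)]
  exact hA

variable [Fact p.Prime] [CharP R p] [Nontrivial R]

lemma PQ_props (hc : IsUnit (c 0)) (i : Fin (m + 1)) :
    (PQ p c y i).natDegree = p ^ ((i : ℕ) + 1) ∧ IsUnit (PQ p c y i).leadingCoeff ∧
      derivative (PQ p c y i) = 0 := by
  have hp2 : 2 ≤ p := (Fact.out : p.Prime).two_le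
  have hp0 : ((p : ℕ) : R) = 0 := CharP.cast_eq_zero R p
  have hder : ∀ a : R, derivative (C a * X ^ p : R[X]) = 0 := by
    intro a
    rw [derivative_C_mul_X_pow, hp0, mul_zero, map_zero, zero_mul]
  induction i using Fin.induction with
  | zero =>
    have hA : IsUnit (C (c 0) * X ^ p : R[X]).leadingCoeff := by
      rw [leadingCoeff_C_mul_X_pow]; exact hc
    have hdA : (C (c 0) * X ^ p : R[X]).natDegree = p := natDegree_C_mul_X_pow _ _ hc.ne_zero
    have hB : (-C (y 0) : R[X]).natDegree < (C (c 0) * X ^ p : R[X]).natDegree := by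
      rw [natDegree_neg, natDegree_C, hdA]; omega
    obtain ⟨h1, h2⟩ := natDegree_add_low hA hB
    rw [PQ_zero, sub_eq_add_neg]
    refine ⟨?_, h2, ?_⟩
    · rw [h1, hdA]; simp
    · rw [derivative_add, hder, derivative_neg, derivative_C, neg_zero, add_zero]
  | succ j ih =>
    obtain ⟨ih1, ih2, ih3⟩ := ih
    set P := PQ p c y j.castSucc with hP
    have hlcne : P.leadingCoeff ^ p ≠ 0 := IsUnit.ne_zero (ih2.pow p)
    have hA : IsUnit (P ^ p).leadingCoeff := by
      rw [leadingCoeff_pow' hlcne]; exact ih2.pow p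
    have hdA : (P ^ p).natDegree = p ^ ((j.succ : ℕ) + 1) := by
      rw [natDegree_pow' hlcne, ih1, Fin.val_succ, Fin.val_castSucc, ← pow_succ']
    have hB : (C (c j.succ) * X ^ p - C (y j.succ) : R[X]).natDegree < (P ^ p).natDegree := by
      rw [hdA]
      have h1 : (C (c j.succ) * X ^ p - C (y j.succ) : R[X]).natDegree ≤ p :=
        (natDegree_sub_le _ _).trans (max_le (natDegree_C_mul_X_pow_le (c j.succ) p)
          (by rw [natDegree_C]; omega))
      have h2 : p < p ^ ((j.succ : ℕ) + 1) := by
        calc p = p ^ 1 := (pow_one p).symm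
          _ < p ^ ((j.succ : ℕ) + 1) := Nat.pow_lt_pow_right (by omega) (by rw [Fin.val_succ]; omega)
      omega
    obtain ⟨h1, h2⟩ := natDegree_add_low hA hB
    rw [PQ_succ, add_sub_assoc]
    refine ⟨by rw [h1, hdA], h2, ?_⟩
    rw [derivative_add, derivative_sub, hder, derivative_C, sub_zero, add_zero, derivative_pow, ih3,
      mul_zero]

/-- the final one-variable polynomial -/
def QQ : R[X] := PQ p c y (Fin.last m) - X

lemma QQ_props (hc : IsUnit (c 0)) :
    (QQ p c y).natDegree = p ^ (m + 1) ∧ IsUnit (QQ p c y).leadingCoeff ∧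
      derivative (QQ p c y) = -1 := by
  have hp2 : 2 ≤ p := (Fact.out : p.Prime).two_le
  obtain ⟨h1, h2, h3⟩ := PQ_props p c y hc (Fin.last m)
  rw [Fin.val_last] at h1
  have hB : (-X : R[X]).natDegree < (PQ p c y (Fin.last m)).natDegree := by
    rw [natDegree_neg, natDegree_X, h1]
    calc 1 < p := by omega
      _ = p ^ 1 := (pow_one p).symm
      _ ≤ p ^ (m + 1) := Nat.pow_le_pow_right (by omega) (by omega)
  obtain ⟨h4, h5⟩ := natDegree_add_low h2 hB
  unfold QQ
  rw [sub_eq_add_neg]
  refine ⟨by rw [h4, h1], h5, ?_⟩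
  rw [derivative_add, h3, derivative_neg, derivative_X, zero_add]

end poly

section elim
variable {R : Type*} [CommRing R] {p : ℕ} [Fact p.Prime] [CharP R p]
variable {M : Type*} [AddCommGroup M] [Module R M]
variable (T : M →+ M) (hT : ∀ (r : R) (m : M), T (r • m) = r ^ p • T m)
variable {m : ℕ} (e : Module.Basis (Fin (m + 1)) R M)
variable (hshift : ∀ j : Fin m, T (e j.castSucc) = e j.succ)

include hT hshift in
lemma T_expand (x : M) :
    T x = ∑ j : Fin m, (e.repr x j.castSucc) ^ p • e j.succ +
      (e.repr x (Fin.last m)) ^ p • T (e (Fin.last m)) := by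
  conv_lhs => rw [← e.sum_repr x]
  rw [map_sum, Fin.sum_univ_castSucc]
  congr 1
  · refine Finset.sum_congr rfl fun j _ => ?_
    rw [hT, hshift]
  · rw [hT]

include hT hshift in
lemma repr_T_zero (x : M) :
    e.repr (T x) 0 = (e.repr x (Fin.last m)) ^ p * e.repr (T (e (Fin.last m))) 0 := by
  rw [T_expand T hT e hshift x]
  simp [Fin.succ_ne_zero]

include hT hshift in
lemma repr_T_succ (x : M) (j : Fin m) :
    e.repr (T x) j.succ = (e.repr x j.castSucc) ^ p +
      (e.repr x (Fin.last m)) ^ p * e.repr (T (e (Fin.last m))) j.succ := by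
  rw [T_expand T hT e hshift x]
  simp [Finsupp.single_apply, Fin.succ_inj]

include hT hshift in
lemma sol_iff (x y : M) :
    T x - x = y ↔ ∀ i, e.repr x i =
      (PQ p (fun i => e.repr (T (e (Fin.last m))) i) (fun i => e.repr y i) i).eval
        (e.repr x (Fin.last m)) := by
  constructor
  · intro h
    have hy : ∀ i, e.repr y i = e.repr (T x) i - e.repr x i := by
      intro i; rw [← h]; simp
    intro i
    induction i using Fin.induction with
    | zero =>
      rw [eval_PQ_zero, hy, repr_T_zero T hT e hshift x]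
      ring
    | succ j ih =>
      rw [eval_PQ_succ, ← ih, hy, repr_T_succ T hT e hshift x]
      ring
  · intro h
    apply e.repr.injective
    ext i
    rw [map_sub, Finsupp.sub_apply]
    induction i using Fin.cases with
    | zero =>
      have := h 0
      rw [eval_PQ_zero] at this
      rw [repr_T_zero T hT e hshift x, this]
      ring
    | succ j =>
      have h1 := h j.succ
      rw [eval_PQ_succ, ← h j.castSucc] at h1
      rw [repr_T_succ T hT e hshift x, h1]
      ring

include hT hshift in
/-- solutions of `T x - x = y` correspond to roots of `QQ` -/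
theorem card_sol (y : M) :
    Nat.card {x : M // T x - x = y} =
      Nat.card {Y : R // (QQ p (fun i => e.repr (T (e (Fin.last m))) i)
        (fun i => e.repr y i)).IsRoot Y} := by
  set c : Fin (m + 1) → R := fun i => e.repr (T (e (Fin.last m))) i with hc
  set yy : Fin (m + 1) → R := fun i => e.repr y i with hyy
  refine Nat.card_congr ⟨fun x => ⟨e.repr x.1 (Fin.last m), ?_⟩,
    fun Y => ⟨e.equivFun.symm (fun i => (PQ p c yy i).eval Y.1), ?_⟩, ?_, ?_⟩
  · have := (sol_iff T hT e hshift x.1 y).1 x.2 (Fin.last m)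
    unfold QQ
    rw [IsRoot, eval_sub, eval_X, ← this, sub_self]
  · have hY : (PQ p c yy (Fin.last m)).eval Y.1 = Y.1 := by
      have := Y.2
      unfold QQ at this
      rw [IsRoot, eval_sub, eval_X, sub_eq_zero] at this
      exact this
    rw [sol_iff T hT e hshift]
    intro i
    have hrepr : ∀ i, e.repr (e.equivFun.symm (fun i => (PQ p c yy i).eval Y.1)) i =
        (PQ p c yy i).eval Y.1 := by
      intro i
      rw [← e.equivFun_apply, LinearEquiv.apply_symm_apply]
    rw [hrepr, hrepr, hY]
  · rintro ⟨x, hx⟩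
    apply Subtype.ext
    show e.equivFun.symm (fun i => (PQ p c yy i).eval (e.repr x (Fin.last m))) = x
    apply e.equivFun.injective
    rw [LinearEquiv.apply_symm_apply]
    funext i
    rw [e.equivFun_apply]
    exact ((sol_iff T hT e hshift x y).1 hx i).symm
  · rintro ⟨Y, hY⟩
    apply Subtype.ext
    show e.repr (e.equivFun.symm (fun i => (PQ p c yy i).eval Y)) (Fin.last m) = Y
    rw [← e.equivFun_apply, LinearEquiv.apply_symm_apply]
    unfold QQ at hY
    rw [IsRoot, eval_sub, eval_X, sub_eq_zero] at hY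
    exact hY

end elim

end Groth.Agent.Lib.Helper6.FrobSL
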