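import Mathlib

/-! Counting the roots of a polynomial with derivative `-1` and unit leading coefficient over a
strictly Henselian local ring. -/

open scoped Classical
set_option linter.unusedSectionVars false
set_option autoImplicit false
noncomputable section

namespace Groth.Agent.Lib.Helper6.FrobSL
open Polynomial IsLocalRing

section field
variable {k : Type*} [Field k] [IsSepClosed k]

/-- over a separably closed field a polynomial with derivative `-1` has exactly `natDegree`
roots -/
lemma card_isRoot_field (Q : k[X]) (hQ : derivative Q = -1) :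
    Nat.card {a : k // Q.IsRoot a} = Q.natDegree := by
  have hsep : Q.Separable := by
    rw [separable_def, hQ]
    exact isCoprime_one_right.neg_right
  have hne : Q ≠ 0 := hsep.ne_zero
  have hsplit := IsSepClosed.splits_of_separable Q hsep
  have hcard : Q.roots.card = Q.natDegree := splits_iff_card_roots.1 hsplit
  have hnodup : Q.roots.Nodup := nodup_roots hsep
  have e : {a : k // Q.IsRoot a} ≃ {a : k // a ∈ Q.roots.toFinset} :=
    Equiv.subtypeEquivRight fun a => by
      rw [Multiset.mem_toFinset, mem_roots hne]
  rw [Nat.card_congr e, Nat.card_eq_fintype_card, Fintype.card_coe,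
    Multiset.toFinset_card_of_nodup hnodup, hcard]

end field

variable {R : Type*} [CommRing R] [HenselianLocalRing R] [IsSepClosed (ResidueField R)]

lemma root_unique (Q : R[X]) (hQ : derivative Q = -1) {a b : R} (ha : Q.IsRoot a) (hb : Q.IsRoot b)
    (hab : a - b ∈ maximalIdeal R) : a = b := by
  obtain ⟨c, hc⟩ := Q.binomExpansion b (a - b)
  rw [add_sub_cancel, ha, hb, hQ, eval_neg, eval_one, zero_add] at hc
  have h1 : (a - b) * (-1 + c * (a - b)) = 0 := by
    rw [hc]; ring
  have h2 : IsUnit (-1 + c * (a - b)) := by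
    by_contra hnu
    have hmem : -1 + c * (a - b) ∈ maximalIdeal R := (mem_maximalIdeal _).2 hnu
    have h3 : c * (a - b) ∈ maximalIdeal R := Ideal.mul_mem_left _ _ hab
    have h4 : (1 : R) ∈ maximalIdeal R := by
      have := Ideal.sub_mem _ h3 hmem
      rwa [show c * (a - b) - (-1 + c * (a - b)) = 1 by ring] at this
    exact (Ideal.ne_top_iff_one _).1 (maximalIdeal.isMaximal R).ne_top h4
  have h5 : a - b = 0 := by
    have := h2.mul_left_eq_zero.1 h1
    exact this
  exact sub_eq_zero.1 h5

/-- the number of roots in a strictly Henselian local ring -/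
theorem card_isRoot (Q : R[X]) (hQ : derivative Q = -1) (hlc : IsUnit Q.leadingCoeff) :
    Nat.card {a : R // Q.IsRoot a} = Q.natDegree := by
  set Qb : (ResidueField R)[X] := Q.map (residue R) with hQb
  have hdeg : Qb.natDegree = Q.natDegree :=
    natDegree_map_of_leadingCoeff_ne_zero _ ((residue_ne_zero_iff_isUnit _).2 hlc)
  have hder : derivative Qb = -1 := by
    rw [hQb, derivative_map, hQ, Polynomial.map_neg, Polynomial.map_one]
  rw [← hdeg, ← card_isRoot_field Qb hder]
  have hroot : ∀ a : R, Qb.IsRoot (residue R a) ↔ Q.eval a ∈ maximalIdeal R := by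
    intro a
    rw [IsRoot, hQb, eval_map_apply, residue_eq_zero_iff]
  refine Nat.card_congr (Equiv.ofBijective
    (fun a => ⟨residue R a.1, (hroot a.1).2 (by rw [a.2]; exact Ideal.zero_mem _)⟩) ⟨?_, ?_⟩)
  · rintro ⟨a, ha⟩ ⟨b, hb⟩ h
    have h1 : residue R a = residue R b := congrArg Subtype.val h
    have h2 : a - b ∈ maximalIdeal R := by
      rw [← residue_eq_zero_iff, map_sub, h1, sub_self]
    exact Subtype.ext (root_unique Q hQ ha hb h2)
  · rintro ⟨ab, hab⟩
    obtain ⟨a₀, rfl⟩ := residue_surjective ab
    obtain ⟨u, hu⟩ := hlc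
    set f : R[X] := C (↑u⁻¹ : R) * Q with hf
    have hmonic : f.Monic := by
      apply monic_C_mul_of_mul_leadingCoeff_eq_one
      rw [← hu, Units.inv_mul]
    have h1 : f.eval a₀ ∈ maximalIdeal R := by
      rw [hf, eval_mul, eval_C]
      exact Ideal.mul_mem_left _ _ ((hroot a₀).1 hab)
    have h2 : IsUnit (f.derivative.eval a₀) := by
      rw [hf, derivative_mul, derivative_C, zero_mul, zero_add, hQ, eval_mul, eval_C, eval_neg,
        eval_one, mul_neg_one]
      exact (Units.isUnit _).neg
    obtain ⟨a, ha, haa⟩ := HenselianLocalRing.is_henselian f hmonic a₀ h1 h2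
    have haQ : Q.IsRoot a := by
      have : (↑u⁻¹ : R) * Q.eval a = 0 := by
        have := ha
        rwa [IsRoot, hf, eval_mul, eval_C] at this
      exact (Units.isUnit u⁻¹).mul_right_eq_zero.1 this
    refine ⟨⟨a, haQ⟩, Subtype.ext ?_⟩
    show residue R a = residue R a₀
    rw [← sub_eq_zero, ← map_sub, residue_eq_zero_iff]
    exact haa

end Groth.Agent.Lib.Helper6.FrobSL
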