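import Mathlib
import Groth.Agent.Lib.Helper6.FrobSL.Cyclic
import Groth.Agent.Lib.Helper6.FrobSL.Elim
import Groth.Agent.Lib.Helper6.FrobSL.HenselCount

/-! Frobenius-semilinear maps over a strictly Henselian local ring: `T - 1` is surjective with
kernel of cardinality `p ^ rank`. -/

open scoped Classical
set_option linter.unusedSectionVars false
set_option autoImplicit false
noncomputable section

namespace Groth.Agent.Lib.Helper6.FrobSL
open Polynomial IsLocalRing TensorProduct

universe u v

section residue
variable (p : ℕ) [Fact p.Prime] {R : Type u} [CommRing R] [IsLocalRing R] [CharP R p]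
variable {M : Type v} [AddCommGroup M] [Module R M]
variable (T : M →+ M) (hT : ∀ (r : R) (m : M), T (r • m) = r ^ p • T m)

variable (R) in
lemma charP_residue : CharP (ResidueField R) p := by
  refine (CharP.charP_iff_prime_eq_zero (Fact.out : p.Prime)).2 ?_
  rw [← map_natCast (residue R), CharP.cast_eq_zero, map_zero]

/-- the biadditive map underlying the reduction of `T` -/
def fT : ResidueField R →+ M →+ ResidueField R ⊗[R] M :=
  haveI := charP_residue p R
  { toFun := fun a =>
      { toFun := fun m => (a ^ p) ⊗ₜ[R] T m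
        map_zero' := by simp
        map_add' := by intro m m'; rw [map_add, tmul_add] }
    map_zero' := by
      ext m
      simp [zero_pow (Fact.out : p.Prime).ne_zero]
    map_add' := by
      intro a b
      ext m
      simp [add_pow_char, add_tmul] }

include hT in
lemma fT_balanced (r : R) (a : ResidueField R) (m : M) :
    fT p T (r • a) m = fT p T a (r • m) := by
  show ((r • a) ^ p) ⊗ₜ[R] T m = (a ^ p) ⊗ₜ[R] T (r • m)
  rw [hT, _root_.smul_pow, smul_tmul]

/-- the reduction of `T` as an additive map -/
def redAdd : ResidueField R ⊗[R] M →+ ResidueField R ⊗[R] M :=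
  TensorProduct.liftAddHom (fT p T) (fT_balanced p T hT)

lemma redAdd_tmul (a : ResidueField R) (m : M) :
    redAdd p T hT (a ⊗ₜ[R] m) = (a ^ p) ⊗ₜ[R] T m := by
  unfold redAdd
  rw [TensorProduct.liftAddHom_tmul]
  rfl

lemma redAdd_smul (c : ResidueField R) (z : ResidueField R ⊗[R] M) :
    redAdd p T hT (c • z) = c ^ (p ^ 1) • redAdd p T hT z := by
  rw [pow_one]
  induction z using TensorProduct.induction_on with
  | zero => simp
  | tmul a m =>
    rw [smul_tmul', redAdd_tmul, redAdd_tmul, smul_tmul', smul_eq_mul, smul_eq_mul, mul_pow]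
  | add z w hz hw => rw [smul_add, map_add, map_add, hz, hw, smul_add]

/-- the reduction of `T` as a semilinear map -/
def red :
    haveI := charP_residue p R
    ResidueField R ⊗[R] M →ₛₗ[iterateFrobenius (ResidueField R) p 1] ResidueField R ⊗[R] M :=
  haveI := charP_residue p R
  ofAdd p 1 (redAdd p T hT) (redAdd_smul p T hT)

lemma red_one_tmul (m : M) : red p T hT ((1 : ResidueField R) ⊗ₜ[R] m) = 1 ⊗ₜ[R] T m := by
  haveI := charP_residue p R
  show redAdd p T hT ((1 : ResidueField R) ⊗ₜ[R] m) = 1 ⊗ₜ[R] T m
  rw [redAdd_tmul, one_pow]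

lemma red_iterate_one_tmul (j : ℕ) (m : M) :
    (red p T hT)^[j] ((1 : ResidueField R) ⊗ₜ[R] m) = 1 ⊗ₜ[R] T^[j] m := by
  induction j with
  | zero => rfl
  | succ j ih =>
    rw [Function.iterate_succ_apply', Function.iterate_succ_apply', ih, red_one_tmul]

lemma exists_one_tmul (z : ResidueField R ⊗[R] M) : ∃ m : M, (1 : ResidueField R) ⊗ₜ[R] m = z :=
  TensorProduct.mk_surjective R M (ResidueField R) Ideal.Quotient.mk_surjective z

include hT in
lemma red_isSS (hspan : Submodule.span R (Set.range T) = ⊤) :
    haveI := charP_residue p R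
    IsSS p 1 (red p T hT) := by
  haveI := charP_residue p R
  unfold IsSS
  rw [eq_top_iff]
  rintro z -
  obtain ⟨m, rfl⟩ := exists_one_tmul z
  have hm : m ∈ Submodule.span R (Set.range T) := by rw [hspan]; trivial
  induction hm using Submodule.span_induction with
  | mem x hx =>
    obtain ⟨m', rfl⟩ := hx
    apply Submodule.subset_span
    exact ⟨1 ⊗ₜ[R] m', red_one_tmul p T hT m'⟩
  | zero => rw [tmul_zero]; exact Submodule.zero_mem _
  | add x y _ _ hx hy => rw [tmul_add]; exact Submodule.add_mem _ hx hy
  | smul r x _ hx =>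
    rw [tmul_smul, ← algebraMap_smul (ResidueField R) r]
    exact Submodule.smul_mem _ _ hx

end residue

section cyclic
variable (p : ℕ) [Fact p.Prime] {R : Type u} [CommRing R] [IsLocalRing R] [CharP R p]
  [IsSepClosed (ResidueField R)]
variable {M : Type v} [AddCommGroup M] [Module R M] [Module.Free R M] [Module.Finite R M]
variable (T : M →+ M) (hT : ∀ (r : R) (m : M), T (r • m) = r ^ p • T m)

include hT in
/-- a cyclic basis -/
theorem exists_cyclic_basis (hspan : Submodule.span R (Set.range T) = ⊤) (n : ℕ)
    (hn : Module.finrank R M = n) :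
    ∃ (u : M) (e : Module.Basis (Fin n) R M), ∀ i : Fin n, e i = T^[i] u := by
  haveI := charP_residue p R
  subst hn
  have hss := red_isSS p T hT hspan
  obtain ⟨ub, hub⟩ := exists_cyclic (red p T hT) hss
  obtain ⟨u, rfl⟩ := exists_one_tmul ub
  have hfr : Module.finrank (ResidueField R) (ResidueField R ⊗[R] M) = Module.finrank R M :=
    Module.finrank_baseChange
  have hli : LinearIndependent (ResidueField R)
      (fun i : Fin (Module.finrank R M) => (1 : ResidueField R) ⊗ₜ[R] T^[i] u) := by
    have := hub.comp (Fin.cast hfr.symm) (Fin.cast_injective _)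
    have heq : ((fun i : Fin (Module.finrank (ResidueField R) (ResidueField R ⊗[R] M)) =>
        (red p T hT)^[i] ((1 : ResidueField R) ⊗ₜ[R] u)) ∘ Fin.cast hfr.symm) =
        fun i : Fin (Module.finrank R M) => (1 : ResidueField R) ⊗ₜ[R] T^[i] u := by
      funext i
      simp [red_iterate_one_tmul]
    rwa [heq] at this
  set bκ := Module.Basis.mk hli
    (hli.span_eq_top_of_card_eq_finrank' (by rw [Fintype.card_fin, hfr])).ge with hbκ
  have hspanf : Submodule.span R (Set.range fun i : Fin (Module.finrank R M) => T^[i] u) = ⊤ :=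
    span_eq_top_of_tmul_eq_basis _ bκ
      (fun i => by rw [hbκ, Module.Basis.coe_mk])
  refine ⟨u, basisOfTopLeSpanOfCardEqFinrank _ hspanf.ge (Fintype.card_fin _), fun i => ?_⟩
  rw [coe_basisOfTopLeSpanOfCardEqFinrank]

end cyclic

section main
variable (p : ℕ) [Fact p.Prime] {R : Type u} [CommRing R] [HenselianLocalRing R] [CharP R p]
  [IsSepClosed (ResidueField R)]
variable {M : Type v} [AddCommGroup M] [Module R M] [Module.Free R M] [Module.Finite R M]
variable (T : M →+ M) (hT : ∀ (r : R) (m : M), T (r • m) = r ^ p • T m)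

include hT in
/-- every fibre of `T - 1` has exactly `p ^ rank` elements -/
theorem card_sol_eq (hspan : Submodule.span R (Set.range T) = ⊤) (y : M) :
    Nat.card {x : M // T x - x = y} = p ^ Module.finrank R M := by
  rcases Nat.eq_zero_or_pos (Module.finrank R M) with h0 | hpos
  · haveI : Subsingleton M := (Module.finrank_eq_zero_iff_of_free (R := R) (M := M)).1 h0
    rw [h0, pow_zero]
    haveI : Unique {x : M // T x - x = y} :=
      ⟨⟨⟨0, Subsingleton.elim _ _⟩⟩, fun _ => Subsingleton.elim _ _⟩
    exact Nat.card_unique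
  · obtain ⟨m, hm⟩ : ∃ m, Module.finrank R M = m + 1 := ⟨Module.finrank R M - 1, by omega⟩
    obtain ⟨u, e, he⟩ := exists_cyclic_basis p T hT hspan (m + 1) hm
    have hshift : ∀ j : Fin m, T (e j.castSucc) = e j.succ := by
      intro j
      rw [he, he, Fin.val_succ, Fin.val_castSucc, Function.iterate_succ_apply']
    have hc0 : IsUnit (e.repr (T (e (Fin.last m))) 0) := by
      by_contra hnu
      have hmem : e.repr (T (e (Fin.last m))) 0 ∈ maximalIdeal R := (mem_maximalIdeal _).2 hnu
      set N : Submodule R M := Submodule.comap (e.coord 0) (maximalIdeal R) with hN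
      have hle : Submodule.span R (Set.range T) ≤ N := by
        rw [Submodule.span_le]
        rintro _ ⟨x, rfl⟩
        show e.coord 0 (T x) ∈ maximalIdeal R
        rw [Module.Basis.coord_apply, repr_T_zero T hT e hshift x]
        exact Ideal.mul_mem_left _ _ hmem
      rw [hspan] at hle
      have h1 : e 0 ∈ N := hle trivial
      have h2 : (1 : R) ∈ maximalIdeal R := by
        have : e.coord 0 (e 0) ∈ maximalIdeal R := h1
        rwa [Module.Basis.coord_apply, Module.Basis.repr_self, Finsupp.single_eq_same] at this
      exact (Ideal.ne_top_iff_one _).1 (maximalIdeal.isMaximal R).ne_top h2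
    obtain ⟨h1, h2, h3⟩ := QQ_props p (fun i => e.repr (T (e (Fin.last m))) i)
      (fun i => e.repr y i) hc0
    rw [card_sol T hT e hshift y, card_isRoot _ h3 h2, h1, hm]

include hT in
theorem frob_main (hspan : Submodule.span R (Set.range T) = ⊤) :
    Function.Surjective (fun m => T m - m) ∧
      Nat.card {m : M // T m = m} = p ^ Module.finrank R M := by
  constructor
  · intro y
    have h := card_sol_eq p T hT hspan y
    have hpos : 0 < Nat.card {x : M // T x - x = y} := by
      rw [h]; exact pow_pos (Fact.out : p.Prime).pos _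
    obtain ⟨⟨x, hx⟩⟩ := (Nat.card_pos_iff.1 hpos).1
    exact ⟨x, hx⟩
  · rw [← card_sol_eq p T hT hspan 0]
    exact Nat.card_congr (Equiv.subtypeEquivRight fun x => by rw [sub_eq_zero])

end main

end Groth.Agent.Lib.Helper6.FrobSL
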