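import Mathlib
import Groth.Agent.Lib.Helper6.FrobSL.HenselMain
import Groth.Agent.Lib.Helper6.FrobSL.Ext

/-! Frobenius-semilinear bijections of finitely generated modules over a strictly Henselian
discrete valuation ring. -/

open scoped Classical
set_option linter.unusedSectionVars false
set_option autoImplicit false
noncomputable section

namespace Groth.Agent.Lib.Helper6.FrobSL
open Polynomial IsLocalRing TensorProduct

universe u v

lemma isSepClosed_of_ringEquiv {k K : Type*} [Field k] [Field K] (e : k ≃+* K) [IsSepClosed k] :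
    IsSepClosed K := by
  refine ⟨fun f hf => ?_⟩
  have h1 : (f.map (e.symm : K →+* k)).Separable := hf.map
  have h2 := IsSepClosed.splits_of_separable _ h1
  have h3 := h2.map (e : k →+* K)
  rw [Polynomial.map_map] at h3
  have h4 : ((e : k →+* K).comp (e.symm : K →+* k)) = RingHom.id K := by
    ext x; simp
  rwa [h4, Polynomial.map_id] at h3

lemma isSepClosed_residue_field (k : Type*) [Field k] [IsSepClosed k] :
    IsSepClosed (ResidueField k) :=
  isSepClosed_of_ringEquiv
    (RingEquiv.ofBijective (residue k) ⟨(residue k).injective, residue_surjective⟩)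

/-- the field case -/
theorem frob_main_field {k : Type u} [Field k] [IsSepClosed k] (p : ℕ) [Fact p.Prime] [CharP k p]
    {V : Type v} [AddCommGroup V] [Module k V] [FiniteDimensional k V] (T : V →+ V)
    (hT : ∀ (c : k) (v : V), T (c • v) = c ^ p • T v)
    (hspan : Submodule.span k (Set.range T) = ⊤) :
    Function.Surjective (fun v => T v - v) ∧
      Nat.card {v : V // T v = v} = p ^ Module.finrank k V := by
  haveI := isSepClosed_residue_field k
  exact frob_main p T hT hspan

section killed
variable (p : ℕ) [Fact p.Prime] {R : Type u} [CommRing R] [IsLocalRing R] [CharP R p]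
  [IsSepClosed (ResidueField R)]
variable {N : Type v} [AddCommGroup N] [Module R N] [Module.Finite R N]
variable (T : N →+ N) (hT : ∀ (r : R) (x : N), T (r • x) = r ^ p • T x)
variable (hkill : ∀ r ∈ maximalIdeal R, ∀ x : N, r • x = 0)

include hkill in
lemma one_tmul_injective :
    Function.Injective (fun x : N => (1 : ResidueField R) ⊗ₜ[R] x) := by
  have hadd : ∀ x y : N, (1 : ResidueField R) ⊗ₜ[R] x = 1 ⊗ₜ[R] y → x = y := by
    intro x y h
    have h0 : (1 : ResidueField R) ⊗ₜ[R] (x - y) = 0 := by rw [tmul_sub, h, sub_self]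
    let eqv : ResidueField R ⊗[R] N ≃ₗ[R] N ⧸ (maximalIdeal R • (⊤ : Submodule R N)) :=
      quotTensorEquivQuotSMul N (maximalIdeal R)
    have h1 : eqv ((1 : ResidueField R) ⊗ₜ[R] (x - y)) = 0 := by rw [h0, map_zero]
    have h2 : eqv ((1 : ResidueField R) ⊗ₜ[R] (x - y)) =
        Submodule.Quotient.mk ((1 : R) • (x - y)) :=
      quotTensorEquivQuotSMul_mk_tmul (maximalIdeal R) 1 (x - y)
    rw [h2, one_smul, Submodule.Quotient.mk_eq_zero] at h1
    have h3 : (maximalIdeal R • (⊤ : Submodule R N)) = ⊥ := by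
      rw [eq_bot_iff, Submodule.smul_le]
      intro r hr n _
      rw [hkill r hr n]
      exact Submodule.zero_mem _
    rw [h3, Submodule.mem_bot, sub_eq_zero] at h1
    exact h1
  intro x y h
  exact hadd x y h

include hT hkill in
theorem killed_main (hsurj : Function.Surjective T) :
    (∀ y : N, ∃ x : N, T x - x = y) ∧
      Nat.card {x : N // T x = x} =
        p ^ Module.finrank (ResidueField R) (ResidueField R ⊗[R] N) := by
  haveI := charP_residue p R
  have hT' : ∀ (c : ResidueField R) (z : ResidueField R ⊗[R] N),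
      redAdd p T hT (c • z) = c ^ p • redAdd p T hT z := by
    intro c z
    have := redAdd_smul p T hT c z
    rwa [pow_one] at this
  have hspanT : Submodule.span R (Set.range T) = ⊤ := by
    rw [Set.range_eq_univ.2 hsurj, Submodule.span_univ]
  have hspan' : Submodule.span (ResidueField R) (Set.range (redAdd p T hT)) = ⊤ :=
    red_isSS p T hT hspanT
  obtain ⟨h1, h2⟩ := frob_main_field p (redAdd p T hT) hT' hspan'
  have hint : ∀ x : N, redAdd p T hT ((1 : ResidueField R) ⊗ₜ[R] x) = 1 ⊗ₜ[R] T x := by
    intro x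
    rw [redAdd_tmul, one_pow]
  have hinj := one_tmul_injective (R := R) (N := N) hkill
  refine ⟨fun y => ?_, ?_⟩
  · obtain ⟨z, hz⟩ := h1 ((1 : ResidueField R) ⊗ₜ[R] y)
    obtain ⟨x, rfl⟩ := exists_one_tmul z
    refine ⟨x, hinj ?_⟩
    show (1 : ResidueField R) ⊗ₜ[R] (T x - x) = 1 ⊗ₜ[R] y
    rw [tmul_sub, ← hint]
    exact hz
  · rw [← h2]
    refine Nat.card_congr (Equiv.ofBijective
      (fun x => ⟨(1 : ResidueField R) ⊗ₜ[R] x.1, by rw [hint, x.2]⟩) ⟨?_, ?_⟩)
    · intro x y h
      exact Subtype.ext (hinj (congrArg Subtype.val h))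
    · rintro ⟨z, hz⟩
      obtain ⟨x, rfl⟩ := exists_one_tmul z
      refine ⟨⟨x, hinj ?_⟩, rfl⟩
      show (1 : ResidueField R) ⊗ₜ[R] T x = 1 ⊗ₜ[R] x
      rw [← hint]
      exact hz

end killed

section split
variable {R : Type u} [CommRing R] [IsLocalRing R]
variable {M : Type v} [AddCommGroup M] [Module R M] [Module.Finite R M]

lemma finrank_split (N : Submodule R M) [Module.Finite R N] [Module.Free R (M ⧸ N)] :
    Module.finrank (ResidueField R) (ResidueField R ⊗[R] M) =
      Module.finrank (ResidueField R) (ResidueField R ⊗[R] N) + Module.finrank R (M ⧸ N) := by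
  obtain ⟨σ, hσ⟩ := Module.projective_lifting_property N.mkQ LinearMap.id
    (Submodule.mkQ_surjective N)
  have hσ' : ∀ q, Submodule.Quotient.mk (σ q) = q := fun q => LinearMap.congr_fun hσ q
  set f : (N × (M ⧸ N)) →ₗ[R] M := LinearMap.coprod N.subtype σ with hf
  have hfapp : ∀ z : N × (M ⧸ N), f z = (z.1 : M) + σ z.2 := by
    intro z; simp [hf]
  have hbij : Function.Bijective f := by
    constructor
    · rw [← LinearMap.ker_eq_bot, eq_bot_iff]
      rintro ⟨x, q⟩ hz
      rw [LinearMap.mem_ker, hfapp] at hz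
      simp only at hz
      have h1 := congrArg (Submodule.Quotient.mk (p := N)) hz
      rw [Submodule.Quotient.mk_add, (Submodule.Quotient.mk_eq_zero N).2 x.2, zero_add, hσ',
        Submodule.Quotient.mk_zero] at h1
      rw [h1, map_zero, add_zero] at hz
      rw [Submodule.mem_bot, Prod.mk_eq_zero]
      exact ⟨Subtype.ext hz, h1⟩
    · intro m
      have hmem : m - σ (Submodule.Quotient.mk m) ∈ N := by
        rw [← Submodule.Quotient.mk_eq_zero N, Submodule.Quotient.mk_sub, hσ', sub_self]
      refine ⟨(⟨_, hmem⟩, Submodule.Quotient.mk m), ?_⟩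
      rw [hfapp]
      simp
  set e : (N × (M ⧸ N)) ≃ₗ[R] M := LinearEquiv.ofBijective f hbij
  have h1 := (e.baseChange R (ResidueField R) _ _).finrank_eq
  have h2 := (TensorProduct.prodRight R (ResidueField R) (ResidueField R) N (M ⧸ N)).finrank_eq
  rw [← h1, h2, Module.finrank_prod,
    Module.finrank_baseChange (R := ResidueField R) (S := R) (M' := M ⧸ N)]

end split

section dvr
variable (p : ℕ) [Fact p.Prime] {R : Type u} [CommRing R] [IsDomain R]
  [IsDiscreteValuationRing R] [HenselianLocalRing R] [IsSepClosed (ResidueField R)] [CharP R p]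
variable {M : Type v} [AddCommGroup M] [Module R M] [Module.Finite R M]
variable (T : M →+ M) (hT : ∀ (r : R) (m : M), T (r • m) = r ^ p • T m)

include hT in
lemma torsion_stable : ∀ x ∈ Submodule.torsion R M, T x ∈ Submodule.torsion R M := by
  rintro x ⟨a, ha⟩
  refine ⟨a ^ p, ?_⟩
  rw [Submonoid.smul_def, SubmonoidClass.coe_pow, ← hT]
  rw [Submonoid.smul_def] at ha
  rw [ha, map_zero]

variable (hbij : Function.Bijective T)

include hT hbij in
lemma Tres_torsion_bijective :
    Function.Bijective (Tres T (Submodule.torsion R M) (torsion_stable p T hT)) := by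
  constructor
  · intro x y h
    have := congrArg Subtype.val h
    simp only [Tres_coe] at this
    exact Subtype.ext (hbij.1 this)
  · rintro ⟨y, a, ha⟩
    obtain ⟨x, rfl⟩ := hbij.2 y
    have hx : x ∈ Submodule.torsion R M := by
      refine ⟨a, ?_⟩
      apply hbij.1
      rw [Submonoid.smul_def] at ha ⊢
      rw [hT, map_zero]
      have hp1 : 1 ≤ p := (Fact.out : p.Prime).one_le
      have : (a : R) ^ p = (a : R) ^ (p - 1) * a := by
        rw [← pow_succ]; congr 1; omega
      rw [this, mul_smul, ha, smul_zero]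
    exact ⟨⟨x, hx⟩, Subtype.ext rfl⟩

include hT hbij in
lemma torsion_killed :
    ∀ r ∈ maximalIdeal R, ∀ x : Submodule.torsion R M, r • x = 0 := by
  have hp2 : 2 ≤ p := (Fact.out : p.Prime).two_le
  obtain ⟨ϖ, hϖ⟩ := IsDiscreteValuationRing.exists_irreducible R
  have hmax : maximalIdeal R = Ideal.span {ϖ} := hϖ.maximalIdeal_eq
  have hex : ∃ k : ℕ, ∀ x : Submodule.torsion R M, ϖ ^ k • x = 0 := by
    obtain ⟨a, ha1, ha2⟩ := Submodule.annihilator_top_inter_nonZeroDivisors
      (R := R) (M := Submodule.torsion R M) (Submodule.torsion_isTorsion)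
    have ha0 : a ≠ 0 := nonZeroDivisors.ne_zero ha2
    obtain ⟨k, u, hu⟩ := IsDiscreteValuationRing.eq_unit_mul_pow_irreducible ha0 hϖ
    refine ⟨k, fun x => ?_⟩
    have h1 : a • x = 0 := Submodule.mem_annihilator.1 ha1 x Submodule.mem_top
    rw [hu, mul_smul] at h1
    have h2 := congrArg (fun z => (↑u⁻¹ : R) • z) h1
    simp only [smul_zero, smul_smul] at h2
    rwa [← mul_assoc, Units.inv_mul, one_mul] at h2
  set k := Nat.find hex with hk
  have hk0 : ∀ x : Submodule.torsion R M, ϖ ^ k • x = 0 := Nat.find_spec hex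
  have hk1 : k ≤ 1 := by
    by_contra hgt
    push Not at hgt
    apply Nat.find_min hex (m := k - 1) (by omega)
    intro x
    apply (Tres_torsion_bijective p T hT hbij).1
    rw [map_zero, Tres_smul T hT, ← pow_mul]
    have h1 : k ≤ (k - 1) * p :=
      calc k ≤ (k - 1) * 2 := by omega
        _ ≤ (k - 1) * p := Nat.mul_le_mul_left _ hp2
    have h2 : (k - 1) * p = ((k - 1) * p - k) + k := by omega
    rw [h2, pow_add, mul_smul, hk0, smul_zero]
  intro r hr x
  rw [hmax, Ideal.mem_span_singleton] at hr
  obtain ⟨c, rfl⟩ := hr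
  have h1 : ϖ • x = 0 := by
    have h2 : ϖ ^ 1 • x = ϖ ^ (1 - k) • ϖ ^ k • x := by
      rw [smul_smul, ← pow_add]; congr 2; omega
    rw [pow_one] at h2
    rw [h2, hk0, smul_zero]
  rw [mul_comm, mul_smul, h1, smul_zero]

include hT hbij in
theorem frob_main_dvr :
    Function.Surjective (fun m => T m - m) ∧
      Nat.card {m : M // T m = m} =
        p ^ Module.finrank (ResidueField R) (ResidueField R ⊗[R] M) := by
  set N := Submodule.torsion R M with hNdef
  have hN := torsion_stable p T hT
  -- the torsion part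
  have hsurjN : Function.Surjective (Tres T N hN) := (Tres_torsion_bijective p T hT hbij).2
  obtain ⟨hN1, hN2⟩ := killed_main p (Tres T N hN) (Tres_smul T hT N hN)
    (torsion_killed p T hT hbij) hsurjN
  -- the quotient
  have hsurjQ : Function.Surjective (Tquot T hT N hN) := by
    intro q
    obtain ⟨y, rfl⟩ := Submodule.Quotient.mk_surjective N q
    obtain ⟨x, rfl⟩ := hbij.2 y
    exact ⟨Submodule.Quotient.mk x, rfl⟩
  have hspanQ : Submodule.span R (Set.range (Tquot T hT N hN)) = ⊤ := by
    rw [Set.range_eq_univ.2 hsurjQ, Submodule.span_univ]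
  obtain ⟨hQ1, hQ2⟩ := frob_main p (Tquot T hT N hN) (Tquot_smul T hT N hN) hspanQ
  refine ⟨ext_surjective T hT N hN hN1 hQ1, ?_⟩
  rw [ext_card T hT N hN hN1, hQ2, hN2, finrank_split N, ← pow_add, add_comm]

end dvr

end Groth.Agent.Lib.Helper6.FrobSL
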