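import Mathlib
import Groth.Agent.Lib.Helper6.FrobSL.BaseChange

/-! Trace of a linear endomorphism on the fixed points of a commuting Frobenius-semilinear map. -/

open scoped Classical TensorProduct
set_option linter.unusedSectionVars false
set_option autoImplicit false
noncomputable section

namespace Groth.Agent.Lib.Helper6.FrobSL

section TraceRestrict

variable {K : Type*} [Field K] {M : Type*} [AddCommGroup M] [Module K M] [FiniteDimensional K M]

/-- the trace of an endomorphism equals the trace of its restriction to its stable range -/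
theorem trace_eq_trace_restrict_of_range_pow (T : M →ₗ[K] M) (U : Submodule K M) (N₀ : ℕ)
    (hU : ∀ N, N₀ ≤ N → LinearMap.range (T ^ N) = U) (hTU : Set.MapsTo T U U) :
    LinearMap.trace K M T = LinearMap.trace K U (T.restrict hTU) := by
  obtain ⟨N₁, hN₁⟩ := Filter.eventually_atTop.1 T.eventually_isCompl_ker_pow_range_pow
  set N := max N₀ N₁ with hN
  have hc : IsCompl (LinearMap.ker (T ^ N)) (LinearMap.range (T ^ N)) := hN₁ N (le_max_right _ _)
  rw [hU N (le_max_left _ _)] at hc
  let A : Bool → Submodule K M := fun b => bif b then U else LinearMap.ker (T ^ N)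
  have hint : DirectSum.IsInternal A :=
    (DirectSum.isInternal_submodule_iff_isCompl A (i := false) (j := true) (by decide)
      (by ext b; cases b <;> simp)).2 hc
  have hker : Set.MapsTo T (LinearMap.ker (T ^ N)) (LinearMap.ker (T ^ N)) := by
    intro x hx
    have hx' : (T ^ N) x = 0 := hx
    show (T ^ N) (T x) = 0
    have : (T ^ N) (T x) = T ((T ^ N) x) := by
      rw [← Module.End.mul_apply, ← Module.End.mul_apply, ← pow_succ, ← pow_succ']
    rw [this, hx', map_zero]
  have hmaps : ∀ b, Set.MapsTo T (A b) (A b) := by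
    intro b
    cases b
    · exact hker
    · exact hTU
  rw [LinearMap.trace_eq_sum_trace_restrict hint hmaps, Fintype.sum_bool]
  have hnil : IsNilpotent (T.restrict (hmaps false)) := by
    refine ⟨N, ?_⟩
    ext x
    have h1 : ((T.restrict (hmaps false)) ^ N) x = ⟨(T ^ N) x.1, by
        have := x.2
        show (T ^ N) ((T ^ N) x.1) = 0
        have hx' : (T ^ N) x.1 = 0 := x.2
        rw [hx', map_zero]⟩ := by
      apply Subtype.ext
      rw [Module.End.pow_restrict]
      rfl
    rw [h1]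
    show (T ^ N) x.1 = 0
    exact x.2
  have h0 : LinearMap.trace K _ (T.restrict (hmaps false)) = 0 :=
    (LinearMap.isNilpotent_trace_of_isNilpotent hnil).eq_zero
  rw [h0, add_zero]
  rfl

end TraceRestrict

section Fixed

variable {K : Type*} [Field K] {p : ℕ} [Fact p.Prime] [CharP K p] {r : ℕ} [IsSepClosed K]
variable {M : Type*} [AddCommGroup M] [Module K M] [FiniteDimensional K M]
variable (Φ : M →ₛₗ[iterateFrobenius K p r] M)
variable {F₀ : Type*} [Field F₀] [Algebra F₀ K] [Module F₀ M] [IsScalarTower F₀ K M]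

theorem trace_fixed (hfix : ∀ c : K, c ^ (p ^ r) = c → ∃ a : F₀, algebraMap F₀ K a = c)
    (hr : 0 < r) (T : M →ₗ[K] M)
    (N₀ : ℕ) (hU : ∀ N, N₀ ≤ N → LinearMap.range (T ^ N) = Vss Φ)
    (W : Submodule F₀ M) (hW : ∀ y, y ∈ W ↔ Φ y = y) :
    Module.Finite F₀ W ∧ ∀ (G : W →ₗ[F₀] W), (∀ y : W, (G y : M) = T y) →
      algebraMap F₀ K (LinearMap.trace F₀ W G) = LinearMap.trace K M T := by
  obtain ⟨b, hb, hbfix⟩ := exists_basis_Vss Φ hr
  let β₀ : Fin (Module.finrank K ↥(Vss Φ)) → W := fun i => ⟨(b i : M), (hW _).2 (hb i)⟩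
  have hinj : Function.Injective (algebraMap F₀ K) := (algebraMap F₀ K).injective
  have hbli : LinearIndependent K (fun i => (b i : M)) :=
    b.linearIndependent.map' (Vss Φ).subtype (Submodule.ker_subtype _)
  have hli : LinearIndependent F₀ β₀ := by
    rw [Fintype.linearIndependent_iff]
    intro g hg i
    have h1 : ∑ j, algebraMap F₀ K (g j) • (b j : M) = 0 := by
      have h0 : ((∑ i, g i • β₀ i : W) : M) = 0 := by rw [hg]; rfl
      rw [Submodule.coe_sum] at h0
      rw [← h0]
      refine Finset.sum_congr rfl fun j _ => ?_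
      rw [algebraMap_smul]
      rfl
    have h2 := Fintype.linearIndependent_iff.1 hbli _ h1 i
    exact hinj (by rw [h2, map_zero])
  have hspan : ⊤ ≤ Submodule.span F₀ (Set.range β₀) := by
    rintro ⟨w, hw⟩ -
    obtain ⟨c, hc, hwc⟩ := hbfix w ((hW w).1 hw)
    choose a ha using fun i => hfix (c i) (hc i)
    have h3 : (⟨w, hw⟩ : W) = ∑ i, a i • β₀ i := by
      apply Subtype.ext
      rw [Submodule.coe_sum]
      show w = _
      rw [hwc]
      refine Finset.sum_congr rfl fun i _ => ?_
      rw [← ha i, algebraMap_smul]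
      rfl
    rw [h3]
    exact Submodule.sum_mem _ fun i _ => Submodule.smul_mem _ _ (Submodule.subset_span ⟨i, rfl⟩)
  let β : Module.Basis (Fin (Module.finrank K ↥(Vss Φ))) F₀ W := Module.Basis.mk hli hspan
  refine ⟨Module.Finite.of_basis β, fun G hG => ?_⟩
  have hTU : Set.MapsTo T (Vss Φ) (Vss Φ) := by
    intro x hx
    rw [SetLike.mem_coe, ← hU N₀ le_rfl] at hx
    obtain ⟨y, rfl⟩ := hx
    rw [SetLike.mem_coe, ← hU (N₀ + 1) (Nat.le_succ _)]
    exact ⟨y, by rw [pow_succ', Module.End.mul_apply]⟩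
  rw [trace_eq_trace_restrict_of_range_pow T (Vss Φ) N₀ hU hTU]
  rw [LinearMap.trace_eq_matrix_trace F₀ β, LinearMap.trace_eq_matrix_trace K b]
  rw [Matrix.trace, Matrix.trace, map_sum]
  refine Finset.sum_congr rfl fun i _ => ?_
  rw [Matrix.diag_apply, Matrix.diag_apply, LinearMap.toMatrix_apply, LinearMap.toMatrix_apply]
  have hβ : ∀ j, ((β j : W) : M) = b j := by
    intro j
    rw [Module.Basis.mk_apply]
  have h1 : T.restrict hTU (b i) = ∑ j, algebraMap F₀ K (β.repr (G (β i)) j) • b j := by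
    apply Subtype.ext
    rw [LinearMap.coe_restrict_apply, Submodule.coe_sum]
    have h2 := congrArg Subtype.val (β.sum_repr (G (β i)))
    rw [Submodule.coe_sum, hG, hβ] at h2
    rw [← h2]
    refine Finset.sum_congr rfl fun j _ => ?_
    show (β.repr (G (β i)) j) • ((β j : W) : M) = algebraMap F₀ K (β.repr (G (β i)) j) • (b j : M)
    rw [hβ, algebraMap_smul]
  rw [h1, b.repr_sum_self]

end Fixed

section Main

universe u

theorem trace_fixed_tensor {p : ℕ} [Fact p.Prime] (k : Type u) [Field k] [Fintype k]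
    [CharP k p] (f : ℕ) (hq : Fintype.card k = p ^ f) (K : Type u) [Field K] [Algebra k K]
    [IsAlgClosed K]
    (V : Type u) [AddCommGroup V] [Module k V] [FiniteDimensional k V]
    (φ : V →ₛₗ[frobenius k p] V) (F : V →ₗ[k] V) (hF : ∀ x, F x = (⇑φ)^[f] x)
    (φK : K ⊗[k] V →+ K ⊗[k] V) (hφK : ∀ (μ : K) (v : V), φK (μ ⊗ₜ[k] v) = (μ ^ p) ⊗ₜ[k] φ v)
    (W : Submodule (↥(⊥ : Subfield k)) (K ⊗[k] V)) (hW : ∀ y, y ∈ W ↔ φK y = y) :
    (∀ y, φK y = y → φK (F.baseChange K y) = F.baseChange K y) ∧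
    Module.Finite (↥(⊥ : Subfield k)) ↥W ∧
    ∀ (G : ↥W →ₗ[↥(⊥ : Subfield k)] ↥W),
      (∀ y : ↥W, (↑(G y) : K ⊗[k] V) = F.baseChange K ↑y) →
      algebraMap k K (algebraMap (↥(⊥ : Subfield k)) k
        (LinearMap.trace (↥(⊥ : Subfield k)) ↥W G)) =
        algebraMap k K (LinearMap.trace k V F) := by
  haveI : CharP K p := charP_of_injective_algebraMap (algebraMap k K).injective p
  have hf : 0 < f := by
    rcases Nat.eq_zero_or_pos f with h | h
    · exfalso
      rw [h, pow_zero] at hq
      have := Fintype.one_lt_card (α := k)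
      omega
    · exact h
  let φ' : V →ₛₗ[iterateFrobenius k p 1] V := ofAdd p 1 φ.toAddMonoidHom (fun c v => by
    show φ (c • v) = c ^ p ^ 1 • φ v
    rw [φ.map_smulₛₗ, frobenius_def, pow_one])
  have hφK' : ∀ (c : K) (v : V), φK (c ⊗ₜ[k] v) = (c ^ (p ^ 1)) ⊗ₜ[k] φ' v := by
    intro c v
    rw [pow_one]
    exact hφK c v
  let Φ : K ⊗[k] V →ₛₗ[iterateFrobenius K p 1] K ⊗[k] V :=
    ofAdd p 1 φK (bc_map_smul φ' φK hφK')
  have hcomm : ∀ y, φK (F.baseChange K y) = F.baseChange K (φK y) := by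
    intro y
    induction y using TensorProduct.induction_on with
    | zero => simp
    | tmul c v =>
      rw [LinearMap.baseChange_tmul, hφK, hφK, LinearMap.baseChange_tmul, hF, hF,
        ← Function.iterate_succ_apply' φ f v, Function.iterate_succ_apply]
    | add x y hx hy => rw [map_add, map_add, map_add, map_add, hx, hy]
  refine ⟨fun y hy => by rw [hcomm, hy], ?_⟩
  have hiter : ∀ (N : ℕ) (v : V), (⇑φ')^[f * N] v = (F ^ N) v := by
    intro N
    induction N with
    | zero => intro v; simp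
    | succ N ih =>
      intro v
      rw [Nat.mul_succ, Function.iterate_add_apply, ih, pow_succ, Module.End.mul_apply, hF]
      rfl
  have hpowtmul : ∀ (N : ℕ) (c : K) (v : V),
      ((F.baseChange K) ^ N) (c ⊗ₜ[k] v) = c ⊗ₜ[k] (F ^ N) v := by
    intro N c v
    rw [← LinearMap.baseChange_pow, LinearMap.baseChange_tmul]
  have hrange : ∀ N, LinearMap.range ((F.baseChange K) ^ N) =
      Submodule.span K (Set.range (⇑Φ)^[f * N]) := by
    intro N
    apply le_antisymm
    · rintro _ ⟨y, rfl⟩
      induction y using TensorProduct.induction_on with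
      | zero => rw [map_zero]; exact Submodule.zero_mem _
      | tmul c v =>
        rw [hpowtmul]
        have h1 : c ⊗ₜ[k] (F ^ N) v = c • (⇑Φ)^[f * N] ((1 : K) ⊗ₜ[k] v) := by
          have h2 : (⇑Φ)^[f * N] ((1 : K) ⊗ₜ[k] v) = (1 : K) ⊗ₜ[k] (F ^ N) v := by
            have := bc_iterate_tmul φ' φK hφK' (f * N) 1 v
            rw [one_pow, hiter] at this
            exact this
          rw [h2, TensorProduct.smul_tmul', smul_eq_mul, mul_one]
        rw [h1]
        exact Submodule.smul_mem _ _ (Submodule.subset_span ⟨_, rfl⟩)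
      | add x y hx hy => rw [map_add]; exact Submodule.add_mem _ hx hy
    · rw [Submodule.span_le]
      rintro _ ⟨z, rfl⟩
      induction z using TensorProduct.induction_on with
      | zero =>
        rw [iterate_zero' p 1 Φ]
        exact Submodule.zero_mem _
      | tmul c v =>
        have h2 : (⇑Φ)^[f * N] (c ⊗ₜ[k] v) = (c ^ ((p ^ 1) ^ (f * N))) ⊗ₜ[k] (F ^ N) v := by
          have := bc_iterate_tmul φ' φK hφK' (f * N) c v
          rw [hiter] at this
          exact this
        rw [h2, ← hpowtmul]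
        exact ⟨_, rfl⟩
      | add x y hx hy =>
        rw [iterate_add p 1 Φ]
        exact Submodule.add_mem _ hx hy
  obtain ⟨N₁, hN₁, -⟩ := exists_Vss_eq Φ
  have hU : ∀ N, N₁ + 1 ≤ N → LinearMap.range ((F.baseChange K) ^ N) = Vss Φ := by
    intro N hN
    rw [hrange]
    obtain ⟨m, hm⟩ : ∃ m, f * N = m + 1 := ⟨f * N - 1, by
      have : 0 < f * N := Nat.mul_pos hf (by omega)
      omega⟩
    have hm' : N₁ ≤ m := by
      have : N ≤ f * N := Nat.le_mul_of_pos_left N hf
      omega
    rw [hm]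
    show Wn Φ m = Vss Φ
    apply le_antisymm
    · rw [hN₁]
      exact Wn_antitone Φ hm'
    · exact iInf_le _ m
  have hfix : ∀ c : K, c ^ (p ^ 1) = c →
      ∃ a : ↥(⊥ : Subfield k), algebraMap ↥(⊥ : Subfield k) K a = c := by
    intro c hc
    rw [pow_one] at hc
    have h1 : c ∈ (⊥ : Subfield K) := (Subfield.mem_bot_iff_pow_eq_self K p).2 hc
    obtain ⟨n, hn⟩ := (mem_bot_iff_intCast p K).1 h1
    refine ⟨⟨(n : k), intCast_mem _ n⟩, ?_⟩
    show algebraMap k K (n : k) = c
    rw [map_intCast, hn]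
  obtain ⟨hfin, htr⟩ := trace_fixed (F₀ := ↥(⊥ : Subfield k)) Φ hfix one_pos (F.baseChange K)
    (N₁ + 1) hU W (fun y => hW y)
  refine ⟨hfin, fun G hG => ?_⟩
  have h3 := htr G hG
  rw [LinearMap.trace_baseChange] at h3
  exact h3

end Main

end Groth.Agent.Lib.Helper6.FrobSL
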